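import Cfsg.Agent.Lib.BlocksChars5.Basic
import Cfsg.Agent.Lib.Induced.Burnside
import Cfsg.Prelude.Def_DegreeGraph

/-!
# Degrees of a non-abelian simple group

`exists_degree_with_other_prime`: for a prime `p` dividing the order of a non-abelian simple group
and any prime `q` some irreducible degree prime to `q` is divisible by a prime other than `p`.
A central element of a Sylow `p`-subgroup has class size prime to `p`, so the characters of
`p`-power degree vanish there, and the second orthogonality relation gives the rest.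
-/

namespace Cfsg.Agent.Lib.BlocksChars5.SimpleDegrees

open scoped ComplexConjugate
open Cfsg.Agent.Lib.Characters.Basic Cfsg.Agent.Lib.BlocksChars5.Basic
open Cfsg.Agent.Lib.Induced

universe u

variable {G : Type u} [Group G] [Finite G]

theorem center_eq_bot [IsSimpleGroup G] (hna : ¬ ∀ a b : G, a * b = b * a) :
    Subgroup.center G = ⊥ := by
  refine (inferInstance : (Subgroup.center G).Normal).eq_bot_or_eq_top.resolve_right fun h => ?_
  exact hna fun a b => Subgroup.mem_center_iff.mp (h ▸ Subgroup.mem_top b) a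

theorem apply_eq_zero_of_coprime [IsSimpleGroup G] (hna : ¬ ∀ a b : G, a * b = b * a)
    {g : G} (hg : g ≠ 1) (χ : Cfsg.IrrCharacter G) (hχ : χ ≠ oneChar G)
    (hcop : Nat.Coprime (Cfsg.charDegree (χ : G → ℂ))
      (Subgroup.centralizer ({g} : Set G)).index) : (χ : G → ℂ) g = 0 := by
  obtain ⟨n, ρ, hρ, hchar⟩ := exists_rep χ
  haveI := hρ
  have hd : Cfsg.charDegree (χ : G → ℂ) = Module.finrank ℂ (Fin n → ℂ) := by
    rw [Cfsg.charDegree, ← hchar, Representation.char_one, Complex.natCast_re, Nat.floor_natCast]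
  rw [hd] at hcop
  rw [← hchar]
  refine (Integral.zero_or_norm_eq_of_coprime ρ g hcop).resolve_right fun hnorm => ?_
  obtain ⟨c, hc⟩ := Integral.scalar_of_norm_character_eq ρ hnorm
  rcases (inferInstance : (MonoidHom.ker ρ).Normal).eq_bot_or_eq_top with hker | hker
  · apply hg
    rw [← Subgroup.mem_bot, ← center_eq_bot hna, Subgroup.mem_center_iff]
    intro y
    apply (MonoidHom.ker_eq_bot_iff ρ).mp hker
    rw [map_mul, map_mul, hc]
    ext v
    simp
  · apply hχ
    have hρ1 : ∀ x : G, ρ x = 1 := fun x =>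
      (MonoidHom.mem_ker (f := ρ)).mp (hker ▸ Subgroup.mem_top x)
    have hconst : ∀ x, (χ : G → ℂ) x = (χ : G → ℂ) 1 := fun x => by
      rw [← hchar, Representation.character, hρ1, Representation.character, hρ1]
    by_contra hne
    obtain ⟨y, hy⟩ : ∃ y : G, y ≠ 1 := ⟨g, hg⟩
    haveI := Fintype.ofFinite G
    have h := classInner_irr_of_ne hne
    rw [Cfsg.classInner] at h
    simp only [hconst, oneChar_apply, map_one, mul_one, Finset.sum_const, Finset.card_univ,
      nsmul_eq_mul, mul_eq_zero, inv_eq_zero, Nat.cast_eq_zero] at h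
    rcases h with h | h | h
    · exact Nat.card_pos.ne' h
    · exact Fintype.card_ne_zero h
    · exact apply_one_ne_zero χ h

theorem exists_degree_with_other_prime [IsSimpleGroup G] (hna : ¬ ∀ a b : G, a * b = b * a)
    {p : ℕ} [Fact p.Prime] (hpG : p ∣ Nat.card G) {q : ℕ} (hq : q.Prime) :
    ∃ χ : Cfsg.IrrCharacter G, ¬ q ∣ Cfsg.charDegree (χ : G → ℂ) ∧
      ∃ r : ℕ, r.Prime ∧ r ∣ Cfsg.charDegree (χ : G → ℂ) ∧ r ≠ p := by
  classical
  haveI := Fintype.ofFinite G
  haveI := Fintype.ofFinite (Cfsg.IrrCharacter G)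
  have hp : p.Prime := Fact.out
  obtain ⟨P⟩ : Nonempty (Sylow p G) := inferInstance
  haveI : Nontrivial P := by
    rw [← Finite.one_lt_card_iff_nontrivial]
    exact lt_of_lt_of_le hp.one_lt (Nat.le_of_dvd Nat.card_pos (P.dvd_card_of_dvd_card hpG))
  haveI := IsPGroup.center_nontrivial P.2
  obtain ⟨z, hz⟩ := exists_ne (1 : Subgroup.center P)
  set g : G := ((z : P) : G)
  have hg : g ≠ 1 := fun h => hz (Subtype.ext (Subtype.ext h))
  have hle : (P : Subgroup G) ≤ Subgroup.centralizer ({g} : Set G) := fun x hx =>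
    Subgroup.mem_centralizer_singleton_iff.mpr
      (congrArg Subtype.val (Subgroup.mem_center_iff.mp z.2 ⟨x, hx⟩))
  have hnp : ¬ p ∣ (Subgroup.centralizer ({g} : Set G)).index := fun h =>
    P.not_dvd_index (h.trans (Subgroup.index_dvd_of_le hle))
  by_contra hcon
  push Not at hcon
  have hterm : ∀ χ : Cfsg.IrrCharacter G, χ ≠ oneChar G →
      ∃ w : ℂ, IsIntegral ℤ w ∧ (χ : G → ℂ) 1 * (χ : G → ℂ) g = (q : ℂ) * w := by
    intro χ hχ
    by_cases hdvd : q ∣ Cfsg.charDegree (χ : G → ℂ)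
    · obtain ⟨m, hm⟩ := hdvd
      refine ⟨(m : ℂ) * (χ : G → ℂ) g, (isIntegral_algebraMap (R := ℤ) (x := (m : ℤ))).mul
        (isIntegral_apply (isCharacter_irr χ) g), ?_⟩
      rw [apply_one, hm, Nat.cast_mul, mul_assoc]
    refine ⟨0, isIntegral_zero, ?_⟩
    rw [mul_zero, apply_eq_zero_of_coprime hna hg χ hχ
      (Nat.coprime_of_dvd fun k hk h1 h2 => hnp (hcon χ hdvd k hk h1 ▸ h2)), mul_zero]
  choose! w hw hweq using hterm
  have hsum := Burnside.sum_degree_mul_eq_zero hg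
  rw [← Finset.add_sum_erase _ _ (Finset.mem_univ (oneChar G)),
    Finset.sum_congr rfl fun χ hχ => hweq χ (Finset.ne_of_mem_erase hχ), ← Finset.mul_sum,
    oneChar_apply, oneChar_apply, one_mul] at hsum
  set Z := ∑ χ ∈ Finset.univ.erase (oneChar G), w χ
  have hZ : IsIntegral ℤ Z := IsIntegral.sum _ fun χ hχ => hw χ (Finset.ne_of_mem_erase hχ)
  have hq0 : (q : ℚ) ≠ 0 := by exact_mod_cast hq.ne_zero
  have hZq : Z = algebraMap ℚ ℂ (-(1 / q : ℚ)) := by
    have hqC : (q : ℂ) ≠ 0 := by exact_mod_cast hq.ne_zero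
    rw [eq_ratCast]
    push_cast
    field_simp
    linear_combination hsum
  rw [hZq, isIntegral_algebraMap_iff (algebraMap ℚ ℂ).injective,
    IsIntegrallyClosed.isIntegral_iff] at hZ
  obtain ⟨m, hm⟩ := hZ
  have h2 : (m : ℚ) * q = -1 := by
    rw [← eq_intCast (algebraMap ℤ ℚ), hm]
    field_simp
  have h3 : m * (q : ℤ) = -1 := by exact_mod_cast h2
  have h4 : m.natAbs * q = 1 := by simpa [Int.natAbs_mul] using congrArg Int.natAbs h3
  exact hq.one_lt.ne' (mul_eq_one.mp h4).2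

/-- A non-abelian simple group has three degree primes. -/
theorem three_degree_primes [IsSimpleGroup G] (hna : ¬ ∀ a b : G, a * b = b * a) :
    ∃ p q r : ℕ, p ≠ q ∧ q ≠ r ∧ p ≠ r ∧ p ∈ Cfsg.degreePrimes G ∧ q ∈ Cfsg.degreePrimes G ∧
      r ∈ Cfsg.degreePrimes G := by
  have hdiv : ∀ r : ℕ, r ∈ Cfsg.degreePrimes G → r ∣ Nat.card G := by
    rintro r ⟨-, d, ⟨χ, rfl⟩, hrd⟩
    exact hrd.trans (degree_dvd_card χ)
  obtain ⟨p₀, hp₀, hp₀G⟩ := Nat.exists_prime_and_dvd (n := Nat.card G) fun h =>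
    hna fun a b => by
      have := (Nat.card_eq_one_iff_unique.mp h).1
      exact Subsingleton.elim _ _
  haveI := Fact.mk hp₀
  obtain ⟨χ, -, p, hp, hpχ, -⟩ := exists_degree_with_other_prime hna hp₀G hp₀
  have hpρ : p ∈ Cfsg.degreePrimes G := ⟨hp, _, ⟨χ, rfl⟩, hpχ⟩
  haveI := Fact.mk hp
  obtain ⟨χ₁, -, q, hq, hqχ, hqp⟩ := exists_degree_with_other_prime hna (hdiv p hpρ) hp
  obtain ⟨χ₂, hnq, r, hr, hrχ, hrp⟩ := exists_degree_with_other_prime hna (hdiv p hpρ) hq
  exact ⟨p, q, r, hqp.symm, fun h => hnq (h ▸ hrχ), hrp.symm, hpρ, ⟨hq, _, ⟨χ₁, rfl⟩, hqχ⟩,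
    ⟨hr, _, ⟨χ₂, rfl⟩, hrχ⟩⟩

end Cfsg.Agent.Lib.BlocksChars5.SimpleDegrees
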