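import Cfsg.Prelude.Def_Blocks
import Cfsg.Agent.Lib.Characters.Basic
import Cfsg.Agent.Lib.Characters.Complete
import Cfsg.Agent.Lib.Induced.Character
import Cfsg.Agent.Lib.Induced.Integral

/-!
# Everyday facts about `Cfsg.IrrCharacter`

Degrees as natural numbers, kernels of irreducible characters, characters of a quotient,
divisibility of the group order by a degree.
-/

namespace Cfsg.Agent.Lib.BlocksChars5.Basic

open scoped ComplexConjugate
open Cfsg.Agent.Lib.Characters.Basic Cfsg.Agent.Lib.Characters.Complete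

variable {G : Type*} [Group G] [Finite G]

/-- The finite type of irreducible characters. -/
@[reducible] noncomputable def irrFintype (G : Type*) [Group G] [Finite G] :
    Fintype (Cfsg.IrrCharacter G) :=
  Fintype.ofFinite _

attribute [local instance] irrFintype

theorem charDegree_cast {χ : G → ℂ} (h : Cfsg.IsCharacter G χ) :
    (Cfsg.charDegree χ : ℂ) = χ 1 := by
  obtain ⟨n, hn⟩ := exists_degree h
  simp [Cfsg.charDegree, hn]

theorem apply_one (χ : Cfsg.IrrCharacter G) :
    (χ : G → ℂ) 1 = (Cfsg.charDegree (χ : G → ℂ) : ℂ) :=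
  (charDegree_cast (isCharacter_irr χ)).symm

theorem degree_pos (χ : Cfsg.IrrCharacter G) : 0 < Cfsg.charDegree (χ : G → ℂ) :=
  Nat.pos_of_ne_zero fun h => apply_one_ne_zero χ (by rw [apply_one, h, Nat.cast_zero])

theorem conj_invariant (χ : Cfsg.IrrCharacter G) (g h : G) :
    (χ : G → ℂ) (h * g * h⁻¹) = (χ : G → ℂ) g :=
  isClassFunction_irr χ g h

theorem eq_of_isConj (χ : Cfsg.IrrCharacter G) {g h : G} (hgh : IsConj g h) :
    (χ : G → ℂ) h = (χ : G → ℂ) g := by
  obtain ⟨c, rfl⟩ := isConj_iff.mp hgh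
  exact conj_invariant χ g c

theorem charDegree_congr {H : Type*} [Group H] {f : G → ℂ} {f' : H → ℂ} (h : f 1 = f' 1) :
    Cfsg.charDegree f = Cfsg.charDegree f' := by
  simp [Cfsg.charDegree, h]

theorem sum_mul_conj_irr [Fintype G] (χ ψ : Cfsg.IrrCharacter G) [Decidable (χ = ψ)] :
    ∑ g : G, (χ : G → ℂ) g * conj ((ψ : G → ℂ) g) = if χ = ψ then (Nat.card G : ℂ) else 0 := by
  have h := classInner_irr χ ψ
  rw [Cfsg.classInner, inv_mul_eq_iff_eq_mul₀ (Nat.cast_ne_zero.mpr Nat.card_pos.ne')] at h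
  rw [h]
  split_ifs <;> simp

theorem sum_mul_conj_self [Fintype G] (χ : Cfsg.IrrCharacter G) :
    ∑ g : G, (χ : G → ℂ) g * conj ((χ : G → ℂ) g) = (Nat.card G : ℂ) := by
  classical
  rw [sum_mul_conj_irr χ χ, if_pos rfl]

theorem second_orthogonality (g h : G) [Decidable (IsConj g h)] :
    ∑ χ : Cfsg.IrrCharacter G, (χ : G → ℂ) g * conj ((χ : G → ℂ) h) =
      if IsConj g h then (Nat.card (Subgroup.centralizer ({g} : Set G)) : ℂ) else 0 := by
  rw [sum_irr_mul_conj]
  split_ifs <;> rfl

theorem sum_degree_sq :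
    ∑ χ : Cfsg.IrrCharacter G, Cfsg.charDegree (χ : G → ℂ) ^ 2 = Nat.card G := by
  have h := finsum_degree_sq (G := G)
  rw [finsum_eq_sum_of_fintype] at h
  simp only [apply_one] at h
  exact_mod_cast h

theorem degree_mul_self_le (χ : Cfsg.IrrCharacter G) :
    Cfsg.charDegree (χ : G → ℂ) * Cfsg.charDegree (χ : G → ℂ) ≤ Nat.card G := by
  rw [← sq, ← sum_degree_sq]
  exact Finset.single_le_sum (f := fun ψ : Cfsg.IrrCharacter G =>
    Cfsg.charDegree (ψ : G → ℂ) ^ 2) (fun _ _ => Nat.zero_le _) (Finset.mem_univ χ)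

/-- The degree of an irreducible character divides the group order. -/
theorem degree_dvd_card (χ : Cfsg.IrrCharacter G) :
    Cfsg.charDegree (χ : G → ℂ) ∣ Nat.card G := by
  classical
  have := Fintype.ofFinite G
  have : Finite (ConjClasses G) := Finite.of_surjective _ ConjClasses.mk_surjective
  have := Fintype.ofFinite (ConjClasses G)
  set d := Cfsg.charDegree (χ : G → ℂ) with hd
  have hd0 : (d : ℂ) ≠ 0 := Nat.cast_ne_zero.mpr (degree_pos χ).ne'
  have hint : IsIntegral ℤ ((Nat.card G : ℂ) / (d : ℂ)) := by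
    have e : (Nat.card G : ℂ) / (d : ℂ) = ∑ C : ConjClasses G,
        ((Subgroup.centralizer ({C.out} : Set G)).index : ℂ) * (χ : G → ℂ) C.out / (d : ℂ) *
          conj ((χ : G → ℂ) C.out) := by
      rw [← sum_mul_conj_self χ,
        ← Finset.sum_fiberwise Finset.univ ConjClasses.mk
          (fun g => (χ : G → ℂ) g * conj ((χ : G → ℂ) g)), Finset.sum_div]
      refine Finset.sum_congr rfl fun C _ => ?_
      have hout : ConjClasses.mk C.out = C := Quotient.out_eq C
      rw [Finset.sum_congr rfl (g := fun _ => (χ : G → ℂ) C.out * conj ((χ : G → ℂ) C.out))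
        (fun g hg => by
          have hg' : ConjClasses.mk C.out = ConjClasses.mk g := hout.trans (Finset.mem_filter.mp hg).2.symm
          rw [eq_of_isConj χ (ConjClasses.mk_eq_mk_iff_isConj.mp hg')])]
      rw [Finset.sum_const, nsmul_eq_mul, ← Cfsg.Agent.Lib.Induced.Integral.nat_card_carrier C.out,
        hout, Nat.card_eq_fintype_card]
      have : (Finset.univ.filter fun g => ConjClasses.mk g = C).card = Fintype.card C.carrier := by
        rw [← Set.toFinset_card]
        congr 1
        ext g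
        simp [ConjClasses.mem_carrier_iff_mk_eq]
      rw [this]
      ring
    rw [e]
    refine IsIntegral.sum _ fun C _ => IsIntegral.mul ?_ ?_
    · obtain ⟨n, ρ, hρ, hχ⟩ := exists_rep χ
      haveI := hρ
      have h2 := Cfsg.Agent.Lib.Induced.Integral.isIntegral_centralCharacter ρ C.out
      rw [← Representation.char_one ρ, hχ, apply_one] at h2
      exact h2
    · exact (isIntegral_apply (isCharacter_irr χ) C.out).map
        ((starRingEnd ℂ).toIntAlgHom)
  obtain ⟨z, hz⟩ : ∃ z : ℤ, (z : ℂ) = (Nat.card G : ℂ) / (d : ℂ) := by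
    have hq : (Nat.card G : ℂ) / (d : ℂ) = (((Nat.card G : ℚ) / (d : ℚ) : ℚ) : ℂ) := by push_cast; rfl
    rw [hq] at hint ⊢
    have h3 : IsIntegral ℤ ((Nat.card G : ℚ) / (d : ℚ)) :=
      (isIntegral_algHom_iff ((algebraMap ℚ ℂ).toIntAlgHom) (algebraMap ℚ ℂ).injective).mp hint
    obtain ⟨z, hz⟩ := IsIntegrallyClosed.algebraMap_eq_of_integral h3
    exact ⟨z, by rw [← hz]; simp⟩
  have : (d : ℤ) ∣ (Nat.card G : ℤ) := ⟨z, by
    have : (Nat.card G : ℂ) = (d : ℂ) * (z : ℂ) := by rw [hz]; field_simp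
    exact_mod_cast this⟩
  exact_mod_cast this

/-- A homomorphism to the nonzero complex numbers is an irreducible character. -/
theorem isIrr_of_hom (f : G →* ℂˣ) : Cfsg.IsIrrCharacter G (fun g => (f g : ℂ)) :=
  Cfsg.Agent.Lib.Induced.Character.isIrrCharacter_hom f

theorem degree_eq_one_of_comm (χ : Cfsg.IrrCharacter G) (h : ∀ a b : G, a * b = b * a) :
    (χ : G → ℂ) 1 = 1 := by
  obtain ⟨n, ρ, hρ, hχ⟩ := exists_rep χ
  haveI := hρ
  haveI : IsMulCommutative G := ⟨⟨h⟩⟩
  rw [← hχ, Representation.char_one, Representation.IsIrreducible.finrank_eq_one_of_isMulCommutative ρ,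
    Nat.cast_one]

/-- The irreducible character obtained by composing with an automorphism. -/
theorem isIrr_comp_equiv {H : Type*} [Group H] (χ : Cfsg.IrrCharacter G) (e : H ≃* G) :
    Cfsg.IsIrrCharacter H (fun h => (χ : G → ℂ) (e h)) :=
  isIrrCharacter_comp e.toMonoidHom e.surjective χ.2

/-- The kernel of an irreducible character. -/
def charKer (χ : Cfsg.IrrCharacter G) : Subgroup G where
  carrier := {g | (χ : G → ℂ) g = (χ : G → ℂ) 1}
  one_mem' := rfl
  mul_mem' {a b} ha hb := by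
    obtain ⟨n, ρ, -, hχ⟩ := exists_rep χ
    simp only [Set.mem_setOf_eq] at *
    rw [← hχ] at ha hb ⊢
    rw [Representation.char_one, Cfsg.Agent.Lib.Characters.Diag.char_eq_finrank_iff] at *
    rw [map_mul, ha, hb]; rfl
  inv_mem' {a} ha := by
    simp only [Set.mem_setOf_eq] at *
    rw [apply_inv (isCharacter_irr χ), ha, conj_apply_one (isCharacter_irr χ)]

theorem mem_charKer (χ : Cfsg.IrrCharacter G) (g : G) :
    g ∈ charKer χ ↔ (χ : G → ℂ) g = (χ : G → ℂ) 1 := Iff.rfl

theorem charKer_normal (χ : Cfsg.IrrCharacter G) : (charKer χ).Normal :=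
  ⟨fun a ha g => by rw [mem_charKer, conj_invariant]; exact ha⟩

theorem apply_mul_of_mem (χ : Cfsg.IrrCharacter G) (g n : G) (h : n ∈ charKer χ) :
    (χ : G → ℂ) (g * n) = (χ : G → ℂ) g := by
  obtain ⟨k, ρ, -, hχ⟩ := exists_rep χ
  rw [mem_charKer, ← hχ, Representation.char_one,
    Cfsg.Agent.Lib.Characters.Diag.char_eq_finrank_iff] at h
  rw [← hχ]
  simp only [Representation.character, map_mul, h]
  rfl

/-- Inflation from a quotient. -/
def inflate (N : Subgroup G) [N.Normal] (χ : Cfsg.IrrCharacter (G ⧸ N)) : Cfsg.IrrCharacter G :=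
  ⟨(χ : G ⧸ N → ℂ) ∘ QuotientGroup.mk' N,
    isIrrCharacter_comp (QuotientGroup.mk' N) (QuotientGroup.mk'_surjective N) χ.2⟩

theorem inflate_apply (N : Subgroup G) [N.Normal] (χ : Cfsg.IrrCharacter (G ⧸ N)) (g : G) :
    (inflate N χ : G → ℂ) g = (χ : G ⧸ N → ℂ) g := rfl

theorem le_charKer_inflate (N : Subgroup G) [N.Normal] (χ : Cfsg.IrrCharacter (G ⧸ N)) :
    N ≤ charKer (inflate N χ) := fun n hn => by
  rw [mem_charKer, inflate_apply, inflate_apply, (QuotientGroup.eq_one_iff n).mpr hn,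
    QuotientGroup.mk_one]

theorem exists_deflate (χ : Cfsg.IrrCharacter G) (N : Subgroup G) [N.Normal] (h : N ≤ charKer χ) :
    ∃ χ' : Cfsg.IrrCharacter (G ⧸ N), inflate N χ' = χ := by
  obtain ⟨k, ρ, hρ, hχ⟩ := exists_rep χ
  have hker : N ≤ ρ.ker := fun n hn => by
    have h1 := h hn
    rw [mem_charKer, ← hχ, Representation.char_one,
      Cfsg.Agent.Lib.Characters.Diag.char_eq_finrank_iff] at h1
    rw [MonoidHom.mem_ker, h1]
    rfl
  let σ : Representation ℂ (G ⧸ N) (Fin k → ℂ) := QuotientGroup.lift N ρ hker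
  have hσ : σ.IsIrreducible := by
    let F : Subrepresentation σ ≃o Subrepresentation ρ :=
      { toFun := fun p => ⟨p.toSubmodule, fun g _ hv => p.apply_mem_toSubmodule (g : G ⧸ N) hv⟩
        invFun := fun q => ⟨q.toSubmodule, fun g v hv => by
          obtain ⟨a, rfl⟩ := QuotientGroup.mk_surjective g
          exact q.apply_mem_toSubmodule a hv⟩
        left_inv := fun _ => rfl
        right_inv := fun _ => rfl
        map_rel_iff' := Iff.rfl }
    exact F.isSimpleOrder_iff.mpr hρ
  exact ⟨⟨σ.character, k, σ, hσ, rfl⟩, Subtype.ext hχ⟩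

theorem inflate_injective (N : Subgroup G) [N.Normal] : Function.Injective (inflate N) := by
  intro a b hab
  refine Subtype.ext (funext fun x => ?_)
  obtain ⟨g, rfl⟩ := QuotientGroup.mk_surjective x
  exact congrFun (congrArg Subtype.val hab) g

/-- Sum over the irreducible characters with `N` in their kernel. -/
theorem sum_over_quotient {M : Type*} [AddCommMonoid M] (N : Subgroup G) [N.Normal]
    [DecidablePred fun χ : Cfsg.IrrCharacter G => N ≤ charKer χ] (F : Cfsg.IrrCharacter G → M) :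
    ∑ χ ∈ Finset.univ.filter (fun χ : Cfsg.IrrCharacter G => N ≤ charKer χ), F χ =
      ∑ χ : Cfsg.IrrCharacter (G ⧸ N), F (inflate N χ) := by
  refine (Finset.sum_bij (fun χ _ => inflate N χ) (fun χ _ => Finset.mem_filter.mpr
    ⟨Finset.mem_univ _, le_charKer_inflate N χ⟩) (fun a _ b _ h => inflate_injective N h)
    (fun χ hχ => ?_) (fun _ _ => rfl)).symm
  obtain ⟨χ', hχ'⟩ := exists_deflate χ N (Finset.mem_filter.mp hχ).2
  exact ⟨χ', Finset.mem_univ _, hχ'⟩

theorem sum_degree_sq_quotient (N : Subgroup G) [N.Normal]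
    [DecidablePred fun χ : Cfsg.IrrCharacter G => N ≤ charKer χ] :
    ∑ χ ∈ Finset.univ.filter (fun χ : Cfsg.IrrCharacter G => N ≤ charKer χ),
      Cfsg.charDegree (χ : G → ℂ) ^ 2 = N.index := by
  rw [sum_over_quotient N (fun χ => Cfsg.charDegree (χ : G → ℂ) ^ 2), Subgroup.index_eq_card,
    ← sum_degree_sq]
  exact Finset.sum_congr rfl fun χ _ => by
    rw [charDegree_congr (f := (inflate N χ : G → ℂ)) (f' := (χ : G ⧸ N → ℂ)) rfl]

/-- Elements outside a normal subgroup are detected by a character of the quotient. -/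
theorem exists_not_mem_charKer (N : Subgroup G) [N.Normal] (g : G) (hg : g ∉ N) :
    ∃ χ : Cfsg.IrrCharacter G, N ≤ charKer χ ∧ g ∉ charKer χ := by
  classical
  by_contra hcon
  push Not at hcon
  refine hg ((QuotientGroup.eq_one_iff g).mp (eq_one_of_forall_irr (G := G ⧸ N) fun χ => ?_))
  have h := hcon (inflate N χ) (le_charKer_inflate N χ)
  rwa [mem_charKer, inflate_apply, inflate_apply, QuotientGroup.mk_one] at h

end Cfsg.Agent.Lib.BlocksChars5.Basic
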