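import Cfsg.Agent.Lib.BlocksChars5.Basic
import Cfsg.Agent.Lib.Characters.Linear
import Cfsg.Agent.Lib.Clifford.Gallagher
import Cfsg.Agent.Lib.Brauer.DegreeRatio

/-!
# Characters with irreducible restriction to a normal subgroup

`restrict_irr_of_coprime`: if `χ(1)` is prime to `[G : N]` then `χ` restricts irreducibly.
`mul_irr_of_restrict_irr`: the product with a character of the quotient is then irreducible.
`ratio_dvd_nat`: degree ratio of a constituent divides the index, over natural numbers.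
-/

namespace Cfsg.Agent.Lib.BlocksChars5.Restrict

open scoped ComplexConjugate
open Cfsg.Agent.Lib.Characters.Basic Cfsg.Agent.Lib.BlocksChars5.Basic
open Cfsg.Agent.Lib Cfsg.Agent.Lib.Induced.Basic

universe u

variable {G : Type u} [Group G] [Fintype G] (N : Subgroup G) [N.Normal]

/-- The degree of a constituent, and the ratio. -/
theorem ratio_dvd_nat [Fintype N] (χ : Cfsg.IrrCharacter G) (θ : Cfsg.IrrCharacter N)
    (h : Cfsg.classInner (fun n : N => (χ : G → ℂ) n) θ ≠ 0) :
    ∃ e : ℕ, Cfsg.charDegree (χ : G → ℂ) = e * Cfsg.charDegree (θ : N → ℂ) ∧ e ∣ N.index := by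
  obtain ⟨e, c, d, hc, hd, hcd, he⟩ := Brauer.DegreeRatio.ratio_dvd N χ.2 θ.2 h
  rw [apply_one, Nat.cast_inj] at hc hd
  exact ⟨e, by rw [hc, hd, hcd], he⟩

/-- A degree prime to the index restricts irreducibly. -/
theorem restrict_irr_of_coprime [Fintype N] (χ : Cfsg.IrrCharacter G)
    (h : Nat.Coprime (Cfsg.charDegree (χ : G → ℂ)) N.index) :
    Cfsg.IsIrrCharacter N (fun n : N => (χ : G → ℂ) n) := by
  obtain ⟨θ, hθ⟩ := Clifford.Basic.exists_constituent_restrict N χ.2
  obtain ⟨e, he, hei⟩ := ratio_dvd_nat N χ θ hθ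
  have he1 : e = 1 := Nat.eq_one_of_dvd_coprimes h (Dvd.intro _ he.symm) hei
  rw [he1, one_mul] at he
  obtain ⟨m, r, hr, hm, -, hres⟩ := Clifford.Basic.exists_eq_nsmul_add
    (isCharacter_comp N.subtype (isCharacter_irr χ)) θ
  obtain ⟨k, hk⟩ := exists_degree hr
  have h1 := congrFun hres 1
  rw [Pi.add_apply, Pi.smul_apply, nsmul_eq_mul, hk, apply_one, Function.comp_apply,
    map_one, apply_one, he] at h1
  have h2 : Cfsg.charDegree (θ : N → ℂ) = m * Cfsg.charDegree (θ : N → ℂ) + k := by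
    exact_mod_cast h1
  have hm0 : m ≠ 0 := by
    intro h0
    apply hθ
    have : (fun n : N => (χ : G → ℂ) n) = (χ : G → ℂ) ∘ N.subtype := rfl
    rw [this, hm, h0, Nat.cast_zero]
  have hpos := degree_pos θ
  have hm1 : 1 * Cfsg.charDegree (θ : N → ℂ) ≤ m * Cfsg.charDegree (θ : N → ℂ) :=
    Nat.mul_le_mul_right _ (Nat.one_le_iff_ne_zero.mpr hm0)
  have hk0 : k = 0 := by omega
  have hm' : m = 1 := by
    rw [hk0, add_zero] at h2
    exact (Nat.mul_right_cancel hpos ((one_mul _).trans h2)).symm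
  rw [hk0, Nat.cast_zero] at hk
  rw [Clifford.Basic.eq_zero_of_apply_one_eq_zero hr hk, add_zero, hm', one_nsmul] at hres
  show Cfsg.IsIrrCharacter N ((χ : G → ℂ) ∘ N.subtype)
  rw [hres]
  exact θ.2

/-- A character with `N` in its kernel is a constituent of the permutation character. -/
theorem over_one [Fintype N] (β : Cfsg.IrrCharacter G) (hβ : N ≤ charKer β) :
    Cfsg.classInner (Cfsg.indFun N (fun _ : N => (1 : ℂ))) β ≠ 0 := by
  rw [Induced.Basic.frobenius_reciprocity N _ (isClassFunction_irr β)]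
  have : (fun n : N => (β : G → ℂ) n) = (β : G → ℂ) 1 • fun _ : N => (1 : ℂ) := by
    funext n
    rw [Pi.smul_apply, smul_eq_mul, mul_one]
    exact hβ n.2
  rw [this, classInner_smul_right]
  refine mul_ne_zero ?_ (by
    have h1 : Cfsg.classInner (oneChar N : N → ℂ) (oneChar N) = 1 := classInner_self_irr _
    exact ne_of_eq_of_ne h1 one_ne_zero)
  rw [conj_apply_one (isCharacter_irr β)]
  exact apply_one_ne_zero β

/-- The first half of Gallagher's theorem. -/
theorem mul_irr_of_restrict_irr (χ β : Cfsg.IrrCharacter G)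
    (hχ : Cfsg.IsIrrCharacter N (fun n : N => (χ : G → ℂ) n)) (hβ : N ≤ charKer β) :
    Cfsg.IsIrrCharacter G ((β : G → ℂ) * (χ : G → ℂ)) := by
  have := Fintype.ofFinite N
  have hone : Cfsg.IsIrrCharacter N (fun _ : N => (1 : ℂ)) := (oneChar N).2
  refine ((Clifford.Gallagher.gallagher N (fun _ : N => (1 : ℂ)) (fun n : N => (χ : G → ℂ) n) hone
    (fun g => rfl) (Clifford.Basic.conjC_restrict N (isClassFunction_irr χ)) ?_ χ.2
    (fun _ => rfl)).1 β (over_one N β hβ)).1
  convert hχ using 1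
  funext n
  exact one_mul _

end Cfsg.Agent.Lib.BlocksChars5.Restrict
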