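import Cfsg.Agent.Lib.BlocksChars5.Basic
import Cfsg.Agent.Lib.BrauerPairs.Bridge
import Cfsg.Agent.Lib.BrauerMap.PKernel

/-!
# Blocks with central defect group and characters of central defect

A block of a group `H` with central p-subgroup `Z` is nonzero on some class with centraliser of
p-part at most `|Z|` iff it has a character trivial on `Z` of defect zero in `H / Z`.
-/

set_option autoImplicit false

namespace Cfsg.Agent.Lib.BlocksChars5.CentralDefect

open scoped ComplexConjugate
open Cfsg.Agent.Lib.BrauerMap.ClassSum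
open Cfsg.Agent.Lib.Blocks (localRing residue omegaBar ccR)
open Cfsg.Agent.Lib.BrauerPairs.Center Cfsg.Agent.Lib.BrauerPairs.Bridge
open Cfsg.Agent.Lib.Characters.Basic Cfsg.Agent.Lib.BlocksChars5.Basic
open Cfsg.Agent.Lib

attribute [local instance] Ideal.Quotient.field

universe u

variable {M : Ideal Cfsg.AlgInt} [M.IsMaximal] {p : ℕ} [Fact p.Prime]

/-- `z a / b` is in the ideal if `z` is integral at `M` and `b` has smaller p-part than `a`. -/
theorem memLocalIdeal_div (hM : Cfsg.IsPModular p M) {z : ℂ} (hz : z ∈ localRing M) {a b : ℕ}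
    (hb : b ≠ 0) (h : b.factorization p < a.factorization p) :
    Cfsg.MemLocalIdeal M (z * (a : ℂ) / (b : ℂ)) := by
  have hp : p.Prime := Fact.out
  obtain ⟨i, b', hb', rfl⟩ := Nat.exists_eq_pow_mul_and_not_dvd hb p hp.ne_one
  have hi : (p ^ i * b').factorization p = i := by
    have hb0 : b' ≠ 0 := right_ne_zero_of_mul hb
    rw [Nat.factorization_mul (pow_ne_zero _ hp.ne_zero) hb0, Finsupp.add_apply,
      hp.factorization_pow, Finsupp.single_eq_same, Nat.factorization_eq_zero_of_not_dvd hb',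
      add_zero]
  rw [hi] at h
  obtain ⟨a', rfl⟩ : p ^ (i + 1) ∣ a :=
    (Nat.pow_dvd_pow p h).trans (Nat.ordProj_dvd a p)
  have hpC : (p : ℂ) ≠ 0 := Nat.cast_ne_zero.mpr hp.ne_zero
  have e : z * ((p ^ (i + 1) * a' : ℕ) : ℂ) / ((p ^ i * b' : ℕ) : ℂ) =
      (z * ((a' : ℂ) * (b' : ℂ)⁻¹)) * (p : ℂ) := by
    have hb0 : (b' : ℂ) ≠ 0 := Nat.cast_ne_zero.mpr (right_ne_zero_of_mul hb)
    push_cast
    field_simp
    ring
  rw [e]
  exact Blocks.memLocalIdeal_mul_left
    (mul_mem hz (mul_mem (natCast_mem _ a') (Blocks.natCast_inv_mem_localRing hM hb')))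
    ((Blocks.memLocalIdeal_natCast_iff hM p).mpr dvd_rfl)

variable {H : Type u} [Group H] [Finite H]

theorem blkOf_ne_zero_iff (χ : Cfsg.IrrCharacter H) (y : H) :
    blkOf M χ (classSumC (Res M) y) ≠ 0 ↔
      ¬ Cfsg.MemLocalIdeal M (Cfsg.centralChar (χ : H → ℂ) y) := by
  rw [blkOf_classSumC, Ne, Blocks.residue_eq_zero_iff]
  rfl

theorem centralChar_eq (χ : Cfsg.IrrCharacter H) (y : H) :
    Cfsg.centralChar (χ : H → ℂ) y = (χ : H → ℂ) y *
      ((Subgroup.centralizer ({y} : Set H)).index : ℂ) / (Cfsg.charDegree (χ : H → ℂ) : ℂ) := by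
  rw [Cfsg.centralChar, apply_one, mul_comm ((χ : H → ℂ) y)]

theorem le_degree (hM : Cfsg.IsPModular p M) (χ : Cfsg.IrrCharacter H) {y : H}
    (hy : ¬ Cfsg.MemLocalIdeal M (Cfsg.centralChar (χ : H → ℂ) y)) :
    (Subgroup.centralizer ({y} : Set H)).index.factorization p ≤
      (Cfsg.charDegree (χ : H → ℂ)).factorization p := by
  by_contra hlt
  apply hy
  rw [centralChar_eq]
  exact memLocalIdeal_div hM
    (Blocks.mem_localRing_of_isIntegral (isIntegral_apply (isCharacter_irr χ) y))
    (degree_pos χ).ne' (Nat.not_le.mp hlt)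

theorem factorization_card (Z : Subgroup H) :
    (Nat.card H).factorization p = Z.index.factorization p + (Nat.card Z).factorization p := by
  rw [← Z.index_mul_card, Nat.factorization_mul Subgroup.index_ne_zero_of_finite Nat.card_pos.ne',
    Finsupp.add_apply]

/-- A small class gives a character of central defect. -/
theorem exists_char (hM : Cfsg.IsPModular p M) (Z : Subgroup H) [Z.Normal] (hZp : IsPGroup p Z)
    {B : Set (Cfsg.IrrCharacter H)} (hB : Cfsg.IsPBlock M B) {y : H}
    (hy : blk hB (classSumC (Res M) y) ≠ 0)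
    (hsmall : ∀ S : Subgroup H, IsPGroup p S → S ≤ Subgroup.centralizer ({y} : Set H) →
      Nat.card S ≤ Nat.card Z) :
    ∃ θ ∈ B, Z ≤ charKer θ ∧ (Cfsg.charDegree (θ : H → ℂ)).factorization p +
      (Nat.card Z).factorization p = (Nat.card H).factorization p := by
  have hp : p.Prime := Fact.out
  obtain ⟨θ', hθ⟩ := BrauerMap.PKernel.exists_infl_mem hM (QuotientGroup.mk' Z)
    (QuotientGroup.mk'_surjective Z) (by rw [QuotientGroup.ker_mk']; exact hZp) hB
  refine ⟨_, hθ, fun z hz => ?_, ?_⟩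
  · rw [mem_charKer, BrauerMap.Inflation.infl_apply, BrauerMap.Inflation.infl_apply, map_one,
      QuotientGroup.mk'_apply, (QuotientGroup.eq_one_iff z).mpr hz]
  set θ := BrauerMap.Inflation.infl (QuotientGroup.mk' Z) (QuotientGroup.mk'_surjective Z) θ'
    with hθdef
  have hy' : ¬ Cfsg.MemLocalIdeal M (Cfsg.centralChar (θ : H → ℂ) y) :=
    (blkOf_ne_zero_iff θ y).mp (blkOf_of_mem hB hθ ▸ hy)
  have hup : (Cfsg.charDegree (θ : H → ℂ)).factorization p ≤ Z.index.factorization p := by
    have hd : Cfsg.charDegree (θ : H → ℂ) ∣ Z.index := by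
      rw [Subgroup.index_eq_card, charDegree_congr (f' := (θ' : H ⧸ Z → ℂ))
        (by rw [hθdef, BrauerMap.Inflation.infl_apply, map_one])]
      exact degree_dvd_card θ'
    exact (Nat.factorization_le_iff_dvd (degree_pos θ).ne' Subgroup.index_ne_zero_of_finite).mpr
      hd p
  have hlow := le_degree hM θ hy'
  set C := Subgroup.centralizer ({y} : Set H)
  obtain ⟨P⟩ : Nonempty (Sylow p C) := inferInstance
  have hP := hsmall ((P : Subgroup C).map C.subtype) (P.2.map _) (Subgroup.map_subtype_le _)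
  rw [Subgroup.card_map_of_injective (Subgroup.subtype_injective _), P.card_eq_multiplicity] at hP
  obtain ⟨i, hi⟩ := IsPGroup.iff_card.mp hZp
  have hiz : (Nat.card Z).factorization p = i := by
    rw [hi, hp.factorization_pow, Finsupp.single_eq_same]
  rw [hi] at hP
  have hCle : (Nat.card C).factorization p ≤ i := (Nat.pow_le_pow_iff_right hp.one_lt).mp hP
  have e1 := factorization_card (p := p) Z
  have e2 := factorization_card (p := p) C
  omega

/-- A character of central defect gives a small class. -/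
theorem exists_class (hM : Cfsg.IsPModular p M) (Z : Subgroup H) [Z.Normal] (hZp : IsPGroup p Z)
    (hZc : ∀ z ∈ Z, ∀ h : H, z * h = h * z) (θ : Cfsg.IrrCharacter H) (hker : Z ≤ charKer θ)
    (hdef : (Cfsg.charDegree (θ : H → ℂ)).factorization p +
      (Nat.card Z).factorization p = (Nat.card H).factorization p) :
    ∃ y : H, blkOf M θ (classSumC (Res M) y) ≠ 0 ∧
      ∀ S : Subgroup H, IsPGroup p S → S ≤ Subgroup.centralizer ({y} : Set H) →
        Nat.card S ≤ Nat.card Z := by
  classical
  have hp : p.Prime := Fact.out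
  obtain ⟨θ', hθ'⟩ := exists_deflate θ Z hker
  haveI := Fintype.ofFinite (H ⧸ Z)
  haveI : Finite (ConjClasses (H ⧸ Z)) := Quotient.finite _
  haveI := Fintype.ofFinite (ConjClasses (H ⧸ Z))
  set d := Cfsg.charDegree (θ' : H ⧸ Z → ℂ) with hd
  have hdθ : Cfsg.charDegree (θ : H → ℂ) = d := charDegree_congr (by
    rw [← hθ', inflate_apply, QuotientGroup.mk_one])
  have hdv : d.factorization p = (Nat.card (H ⧸ Z)).factorization p := by
    rw [← Subgroup.index_eq_card, ← hdθ]
    have e1 := factorization_card (p := p) Z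
    omega
  obtain ⟨n, hn⟩ := degree_dvd_card θ'
  rw [← hd] at hn
  have hn0 : n ≠ 0 := fun h => by
    rw [h, mul_zero] at hn; exact Nat.card_pos.ne' hn
  have hnp : ¬ p ∣ n := fun hdvd => by
    have h1 : (Nat.card (H ⧸ Z)).factorization p = (d * n).factorization p := by rw [← hn]
    rw [Nat.factorization_mul (hd ▸ (degree_pos θ').ne') hn0, Finsupp.add_apply] at h1
    have := hp.factorization_pos_of_dvd hn0 hdvd
    omega
  -- the norm, class by class
  have hsum : ∑ K : ConjClasses (H ⧸ Z), Cfsg.centralChar (θ' : H ⧸ Z → ℂ) K.out *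
      conj ((θ' : H ⧸ Z → ℂ) K.out) = (n : ℂ) := by
    have hd0 : (d : ℂ) ≠ 0 := Nat.cast_ne_zero.mpr (degree_pos θ').ne'
    have e : (n : ℂ) = (Nat.card (H ⧸ Z) : ℂ) / (d : ℂ) := by
      rw [hn, Nat.cast_mul]; field_simp
    rw [e, ← sum_mul_conj_self θ',
      ← Finset.sum_fiberwise Finset.univ ConjClasses.mk
        (fun g => (θ' : H ⧸ Z → ℂ) g * conj ((θ' : H ⧸ Z → ℂ) g)), Finset.sum_div]
    refine Finset.sum_congr rfl fun K _ => ?_
    have hout : ConjClasses.mk K.out = K := Quotient.out_eq K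
    rw [Finset.sum_congr rfl (g := fun _ => (θ' : H ⧸ Z → ℂ) K.out * conj ((θ' : H ⧸ Z → ℂ) K.out))
      (fun g hg => by
        have hg' : ConjClasses.mk K.out = ConjClasses.mk g :=
          hout.trans (Finset.mem_filter.mp hg).2.symm
        rw [eq_of_isConj θ' (ConjClasses.mk_eq_mk_iff_isConj.mp hg')]),
      Finset.sum_const, nsmul_eq_mul, centralChar_eq, ← hd]
    have hc : (Finset.univ.filter fun g => ConjClasses.mk g = K).card =
        (Subgroup.centralizer ({K.out} : Set (H ⧸ Z))).index := by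
      rw [← Induced.Integral.nat_card_carrier K.out, hout, Nat.card_eq_fintype_card,
        ← Set.toFinset_card]
      congr 1
      ext g
      simp [ConjClasses.mem_carrier_iff_mk_eq]
    rw [hc]
    ring
  have hnI : ¬ Cfsg.MemLocalIdeal M (n : ℂ) := fun h =>
    hnp ((Blocks.memLocalIdeal_natCast_iff hM n).mp h)
  rw [← hsum] at hnI
  obtain ⟨K, hK⟩ : ∃ K : ConjClasses (H ⧸ Z), ¬ Cfsg.MemLocalIdeal M
      (Cfsg.centralChar (θ' : H ⧸ Z → ℂ) K.out * conj ((θ' : H ⧸ Z → ℂ) K.out)) := by
    by_contra hall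
    push Not at hall
    exact hnI (Blocks.memLocalIdeal_sum _ fun K _ => hall K)
  set yb := K.out with hyb
  set cb := (Subgroup.centralizer ({yb} : Set (H ⧸ Z))).index with hcb
  have hconj : conj ((θ' : H ⧸ Z → ℂ) yb) ∈ localRing M := by
    rw [← apply_inv (isCharacter_irr θ')]
    exact Blocks.mem_localRing_of_isIntegral (isIntegral_apply (isCharacter_irr θ') _)
  have hω : ¬ Cfsg.MemLocalIdeal M (Cfsg.centralChar (θ' : H ⧸ Z → ℂ) yb) :=
    fun h => hK (Blocks.memLocalIdeal_mul_right h hconj)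
  have hcv : d.factorization p ≤ cb.factorization p := by
    by_contra hlt
    apply hK
    refine Blocks.memLocalIdeal_mul_left (ccR M θ' yb).2 ?_
    have hcent : Subgroup.centralizer ({yb⁻¹} : Set (H ⧸ Z)) =
        Subgroup.centralizer ({yb} : Set (H ⧸ Z)) := by
      ext x
      simp only [Subgroup.mem_centralizer_singleton_iff]
      exact (Commute.inv_right_iff (a := x) (b := yb))
    have hcb0 : (cb : ℂ) ≠ 0 := Nat.cast_ne_zero.mpr Subgroup.index_ne_zero_of_finite
    have e : conj ((θ' : H ⧸ Z → ℂ) yb) =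
        Cfsg.centralChar (θ' : H ⧸ Z → ℂ) yb⁻¹ * (d : ℂ) / (cb : ℂ) := by
      rw [centralChar_eq, hcent, ← hcb, ← hd, apply_inv (isCharacter_irr θ')]
      have hd0 : (d : ℂ) ≠ 0 := Nat.cast_ne_zero.mpr (degree_pos θ').ne'
      field_simp
    rw [e]
    exact memLocalIdeal_div hM (ccR M θ' yb⁻¹).2 Subgroup.index_ne_zero_of_finite
      (Nat.not_le.mp hlt)
  obtain ⟨y, hy⟩ := QuotientGroup.mk_surjective yb
  set c := (Subgroup.centralizer ({y} : Set H)).index with hc
  have hcc : cb ∣ c := by
    refine dvd_trans (Subgroup.index_dvd_of_le ?_)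
      (Subgroup.index_map_dvd (Subgroup.centralizer ({y} : Set H))
        (QuotientGroup.mk'_surjective Z))
    rintro _ ⟨x, hx, rfl⟩
    rw [Subgroup.mem_centralizer_singleton_iff, QuotientGroup.mk'_apply, ← hy,
      ← QuotientGroup.mk_mul, Subgroup.mem_centralizer_singleton_iff.mp hx, QuotientGroup.mk_mul]
  have hcZ : c ∣ Z.index := Subgroup.index_dvd_of_le fun z hz =>
    Subgroup.mem_centralizer_singleton_iff.mpr (hZc z hz y)
  obtain ⟨m, hm⟩ := hcc
  have hc0 : c ≠ 0 := Subgroup.index_ne_zero_of_finite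
  have hm0 : m ≠ 0 := fun h => hc0 (by rw [hm, h, mul_zero])
  have hcle : c.factorization p ≤ Z.index.factorization p :=
    (Nat.factorization_le_iff_dvd hc0 Subgroup.index_ne_zero_of_finite).mpr hcZ p
  have hmv : m.factorization p = 0 ∧ c.factorization p = Z.index.factorization p := by
    have h1 : c.factorization p = cb.factorization p + m.factorization p := by
      rw [hm, Nat.factorization_mul Subgroup.index_ne_zero_of_finite hm0, Finsupp.add_apply]
    rw [← Subgroup.index_eq_card] at hdv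
    omega
  have hpm : ¬ p ∣ m := fun h => by
    have := hp.factorization_pos_of_dvd hm0 h
    omega
  refine ⟨y, (blkOf_ne_zero_iff θ y).mpr ?_, fun S hS hSC => ?_⟩
  · have e : Cfsg.centralChar (θ : H → ℂ) y = (m : ℂ) * Cfsg.centralChar (θ' : H ⧸ Z → ℂ) yb := by
      rw [centralChar_eq, centralChar_eq, hdθ, ← hd, ← hc, ← hcb, hm, ← hθ', inflate_apply, hy]
      push_cast
      ring
    rw [e]
    exact Blocks.not_memLocalIdeal_mul (natCast_mem _ m) (ccR M θ' yb).2
      (fun h => hpm ((Blocks.memLocalIdeal_natCast_iff hM m).mp h)) hω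
  · obtain ⟨s, hs⟩ := IsPGroup.iff_card.mp hS
    obtain ⟨i, hi⟩ := IsPGroup.iff_card.mp hZp
    rw [hs, hi]
    refine Nat.pow_le_pow_right hp.pos ?_
    have h1 : s ≤ (Nat.card (Subgroup.centralizer ({y} : Set H))).factorization p :=
      (hp.pow_dvd_iff_le_factorization Nat.card_pos.ne').mp (hs ▸ Subgroup.card_dvd_of_le hSC)
    have hiz : (Nat.card Z).factorization p = i := by
      rw [hi, hp.factorization_pow, Finsupp.single_eq_same]
    have e1 := factorization_card (p := p) Z
    have e2 := factorization_card (p := p) (Subgroup.centralizer ({y} : Set H))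
    rw [← hc] at e2
    omega

end Cfsg.Agent.Lib.BlocksChars5.CentralDefect
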