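import Cfsg.Agent.Lib.BlocksChars5.Basic
import Cfsg.Agent.Lib.Frobenius.Basic
import Mathlib.GroupTheory.SchurZassenhaus
import Mathlib.GroupTheory.FiniteAbelian.Duality
import Mathlib.GroupTheory.SpecificGroups.Cyclic

/-!
# Codegrees of irreducible characters
-/

namespace Cfsg.Agent.Lib.BlocksChars5.Codegree

open scoped ComplexConjugate
open Cfsg.Agent.Lib.Characters.Basic Cfsg.Agent.Lib.BlocksChars5.Basic

attribute [local instance] irrFintype

variable {G : Type*} [Group G] [Finite G]

theorem res_inner_nat (χ : Cfsg.IrrCharacter G) (H : Subgroup G) [Fintype H]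
    (μ : Cfsg.IrrCharacter H) :
    ∃ m : ℕ, ∑ x : H, (χ : G → ℂ) x * conj ((μ : H → ℂ) x) = (Nat.card H : ℂ) * m := by
  obtain ⟨m, hm⟩ := exists_classInner_nat (isCharacter_comp H.subtype (isCharacter_irr χ))
    (isCharacter_irr μ)
  rw [Cfsg.classInner, inv_mul_eq_iff_eq_mul₀ (Nat.cast_ne_zero.mpr Nat.card_pos.ne')] at hm
  exact ⟨m, hm⟩

theorem exists_deflate' (χ : Cfsg.IrrCharacter G) (N : Subgroup G) [N.Normal] (h : N ≤ charKer χ) :
    ∃ χ' : Cfsg.IrrCharacter (G ⧸ N), ∀ g : G, (χ' : G ⧸ N → ℂ) g = (χ : G → ℂ) g := by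
  obtain ⟨χ', hχ'⟩ := exists_deflate χ N h
  exact ⟨χ', fun g => congrFun (congrArg Subtype.val hχ') g⟩

theorem degree_mul_abelian_le (χ : Cfsg.IrrCharacter G) (A : Subgroup G)
    (hA : ∀ a b : A, a * b = b * a) :
    Cfsg.charDegree (χ : G → ℂ) * Nat.card A ≤ Nat.card G := by
  classical
  have := Fintype.ofFinite G
  have := Fintype.ofFinite A
  choose m hm using res_inner_nat χ A
  have hAne : (Nat.card A : ℂ) ≠ 0 := Nat.cast_ne_zero.mpr Nat.card_pos.ne'
  have hcent : ∀ a : A, Nat.card (Subgroup.centralizer ({a} : Set A)) = Nat.card A := fun a => by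
    rw [show Subgroup.centralizer ({a} : Set A) = ⊤ by
      ext x; simp [Subgroup.mem_centralizer_singleton_iff, hA x a], Subgroup.card_top]
  have hconj : ∀ a b : A, IsConj a b ↔ a = b := fun a b => by
    constructor
    · rw [isConj_iff]
      rintro ⟨c, rfl⟩
      rw [hA c a, mul_inv_cancel_right]
    · rintro rfl; exact IsConj.refl a
  have hcol : ∀ a b : A, ∑ μ : Cfsg.IrrCharacter A, (μ : A → ℂ) a * conj ((μ : A → ℂ) b) =
      if a = b then (Nat.card A : ℂ) else 0 := fun a b => by
    rw [second_orthogonality a b]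
    simp only [hconj a b, hcent a]
  have hmu1 : ∀ μ : Cfsg.IrrCharacter A, (μ : A → ℂ) 1 = 1 := fun μ => degree_eq_one_of_comm μ hA
  -- the multiplicities add up to the degree
  have h1 : ∑ μ, (m μ : ℂ) = (χ : G → ℂ) 1 := by
    apply mul_left_cancel₀ hAne
    rw [Finset.mul_sum, Finset.sum_congr rfl (fun μ _ => (hm μ).symm), Finset.sum_comm]
    have : ∀ a : A, ∑ μ : Cfsg.IrrCharacter A, conj ((μ : A → ℂ) a) =
        if (1 : A) = a then (Nat.card A : ℂ) else 0 := fun a => by
      rw [← hcol 1 a]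
      simp [hmu1]
    simp only [← Finset.mul_sum, this, mul_ite, mul_zero, Finset.sum_ite_eq, Finset.mem_univ,
      if_true, OneMemClass.coe_one]
    ring
  -- Parseval
  have h2 : (Nat.card A : ℂ) * ∑ μ, ((m μ : ℂ) * (m μ : ℂ)) =
      ∑ a : A, (χ : G → ℂ) a * conj ((χ : G → ℂ) a) := by
    apply mul_left_cancel₀ hAne
    have hmc : ∀ μ, (Nat.card A : ℂ) * m μ =
        ∑ x : A, conj ((χ : G → ℂ) x) * (μ : A → ℂ) x := fun μ => by
      have := congrArg conj (hm μ)
      simpa using this.symm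
    calc (Nat.card A : ℂ) * ((Nat.card A : ℂ) * ∑ μ, ((m μ : ℂ) * (m μ : ℂ)))
        = ∑ μ, ((Nat.card A : ℂ) * m μ) * ((Nat.card A : ℂ) * m μ) := by
          rw [Finset.mul_sum, Finset.mul_sum]
          exact Finset.sum_congr rfl fun μ _ => by ring
      _ = ∑ μ : Cfsg.IrrCharacter A, ∑ a : A, ∑ b : A, ((χ : G → ℂ) a * conj ((χ : G → ℂ) b)) *
            ((μ : A → ℂ) b * conj ((μ : A → ℂ) a)) := by
          refine Finset.sum_congr rfl fun μ _ => ?_
          conv_lhs => arg 1; rw [← hm μ]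
          conv_lhs => arg 2; rw [hmc μ]
          rw [Finset.sum_mul_sum]
          exact Finset.sum_congr rfl fun a _ => Finset.sum_congr rfl fun b _ => by ring
      _ = ∑ a : A, ∑ b : A, ((χ : G → ℂ) a * conj ((χ : G → ℂ) b)) *
            (if b = a then (Nat.card A : ℂ) else 0) := by
          rw [Finset.sum_comm]
          refine Finset.sum_congr rfl fun a _ => ?_
          rw [Finset.sum_comm]
          exact Finset.sum_congr rfl fun b _ => by rw [← Finset.mul_sum, hcol]
      _ = _ := by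
          simp only [mul_ite, mul_zero, Finset.sum_ite_eq', Finset.mem_univ, if_true]
          rw [Finset.mul_sum]
          exact Finset.sum_congr rfl fun a _ => by ring
  have h3 : (∑ a : A, Complex.normSq ((χ : G → ℂ) a)) ≤ Nat.card G := by
    have h4 : (∑ g : G, Complex.normSq ((χ : G → ℂ) g)) = (Nat.card G : ℝ) := by
      have := sum_mul_conj_self χ
      simp only [Complex.mul_conj] at this
      exact_mod_cast this
    refine le_trans (le_of_eq ?_) (h4 ▸ Finset.sum_le_univ_sum_of_nonneg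
      (s := Finset.univ.map ⟨((↑) : A → G), Subtype.val_injective⟩) (fun g => Complex.normSq_nonneg _))
    simp
  simp only [Complex.mul_conj, ← Complex.ofReal_sum] at h2
  have h5 : ((Nat.card A * ∑ μ, m μ * m μ : ℕ) : ℝ) = ∑ a : A, Complex.normSq ((χ : G → ℂ) a) := by
    have e : (((Nat.card A * ∑ μ, m μ * m μ : ℕ) : ℝ) : ℂ) =
        ((∑ a : A, Complex.normSq ((χ : G → ℂ) a) : ℝ) : ℂ) := by
      rw [← h2]; push_cast; ring
    exact_mod_cast e
  have h6 : Nat.card A * (∑ μ, m μ * m μ) ≤ Nat.card G := by exact_mod_cast h5.le.trans h3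
  have h7 : Cfsg.charDegree (χ : G → ℂ) = ∑ μ, m μ := by
    have : ((Cfsg.charDegree (χ : G → ℂ) : ℕ) : ℂ) = ((∑ μ, m μ : ℕ) : ℂ) := by
      rw [← apply_one χ, ← h1]; push_cast; rfl
    exact_mod_cast this
  rw [h7, mul_comm]
  refine le_trans (Nat.mul_le_mul_left _ (Finset.sum_le_sum fun μ _ => Nat.le_mul_self _)) h6

/-- An irreducible character of prime "codegree" `#G / χ 1 = p`. -/
theorem prime_codegree (χ : Cfsg.IrrCharacter G) {p : ℕ} (hp : p.Prime)
    (hcod : Nat.card G = p * Cfsg.charDegree (χ : G → ℂ)) :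
    (IsCyclic G ∧ Nat.card G = p) ∨ (∃ P H : Subgroup G, P.Normal ∧ Nat.card P = p ∧
      P.IsComplement' H ∧ H ≠ ⊥ ∧ ∀ h ∈ H, h ≠ 1 → P ⊓ Subgroup.centralizer {h} = ⊥) := by
  haveI : Fact p.Prime := ⟨hp⟩
  set d := Cfsg.charDegree (χ : G → ℂ) with hd
  have hd0 : 0 < d := degree_pos χ
  have hbound : ∀ A : Subgroup G, (∀ a b : A, a * b = b * a) → Nat.card A ≤ p := fun A hA =>
    Nat.le_of_mul_le_mul_left ((degree_mul_abelian_le χ A hA).trans_eq (hcod.trans (mul_comm _ _)))
      hd0
  rcases eq_or_ne d 1 with hd1 | hd1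
  · exact Or.inl ⟨isCyclic_of_prime_card (p := p) (by rw [hcod, hd1, mul_one]),
      by rw [hcod, hd1, mul_one]⟩
  refine Or.inr ?_
  have hdp : d < p := by
    rcases lt_trichotomy d p with h | h | h
    · exact h
    · exfalso
      have hc : Nat.card G = p ^ 2 := by rw [hcod, h, sq]
      have hcomm := IsPGroup.isMulCommutative_of_card_eq_prime_sq (G := G) (p := p) hc
      have := hbound ⊤ fun a b => Subtype.ext (hcomm.is_comm.comm (a : G) b)
      rw [Subgroup.card_top, hc, sq] at this
      exact absurd (Nat.le_of_mul_le_mul_left (this.trans_eq (mul_one p).symm) hp.pos)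
        (not_le.mpr hp.one_lt)
    · exfalso
      have := hbound ⊥ fun a b => Subsingleton.elim _ _
      -- the degree squared is at most the order
      have hsq : d * d ≤ Nat.card G := by
        classical
        have h1 := second_orthogonality (1 : G) (1 : G)
        rw [if_pos (IsConj.refl _), show Subgroup.centralizer ({(1 : G)} : Set G) = ⊤ by
          ext x; simp [Subgroup.mem_centralizer_singleton_iff], Subgroup.card_top] at h1
        simp only [apply_one, map_natCast] at h1
        have h2 : ∑ ψ : Cfsg.IrrCharacter G,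
            Cfsg.charDegree (ψ : G → ℂ) * Cfsg.charDegree (ψ : G → ℂ) = Nat.card G := by
          exact_mod_cast h1
        rw [← h2]
        exact Finset.single_le_sum (f := fun ψ : Cfsg.IrrCharacter G =>
          Cfsg.charDegree (ψ : G → ℂ) * Cfsg.charDegree (ψ : G → ℂ)) (fun ψ _ => Nat.zero_le _)
          (Finset.mem_univ χ)
      rw [hcod] at hsq
      exact absurd (Nat.le_of_mul_le_mul_right hsq hd0) (not_le.mpr h)
  obtain ⟨S⟩ : Nonempty (Sylow p G) := inferInstance
  have hS : Nat.card (S : Subgroup G) = p := by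
    rw [S.card_eq_multiplicity, hcod, Nat.factorization_mul hp.ne_zero hd0.ne', Finsupp.add_apply,
      hp.factorization_self, Nat.factorization_eq_zero_of_not_dvd
        (fun h => absurd (Nat.le_of_dvd hd0 h) (not_le.mpr hdp)), pow_one]
  haveI hn : (S : Subgroup G).Normal := by
    have h1 : Nat.card (Sylow p G) ∣ (S : Subgroup G).index := S.card_dvd_index
    have h2 : (S : Subgroup G).index = d := by
      have := (S : Subgroup G).index_mul_card
      rw [hS, hcod, mul_comm p d] at this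
      exact Nat.eq_of_mul_eq_mul_right hp.pos this
    rw [h2] at h1
    have h3 : Nat.card (Sylow p G) = 1 := by
      have hm := card_sylow_modEq_one p G
      have hlt := (Nat.le_of_dvd hd0 h1).trans_lt hdp
      rwa [Nat.ModEq, Nat.mod_eq_of_lt hlt, Nat.one_mod_eq_one.mpr hp.ne_one] at hm
    haveI : Subsingleton (Sylow p G) := Nat.card_eq_one_iff_unique.mp h3 |>.1
    exact Sylow.normal_of_subsingleton S
  have hidx : (S : Subgroup G).index = d := by
    have := (S : Subgroup G).index_mul_card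
    rw [hS, hcod, mul_comm p d] at this
    exact Nat.eq_of_mul_eq_mul_right hp.pos this
  obtain ⟨H, hH⟩ := Subgroup.exists_right_complement'_of_coprime (N := (S : Subgroup G))
    (by rw [hS, hidx]; exact (hp.coprime_iff_not_dvd.mpr
      fun h => absurd (Nat.le_of_dvd hd0 h) (not_le.mpr hdp)))
  refine ⟨S, H, hn, hS, hH, fun hb => hd1 ?_, fun h hh hh1 => ?_⟩
  · have := hH.card_mul_card
    rw [hb, Subgroup.card_bot, hS, hcod, mul_one] at this
    exact (Nat.eq_of_mul_eq_mul_left hp.pos (by rw [← this, mul_one])).symm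
  · rw [Subgroup.eq_bot_iff_forall]
    rintro x ⟨hx, hxc⟩
    by_contra hx1
    -- an abelian subgroup properly containing `S`
    haveI : IsCyclic (S : Subgroup G) := isCyclic_of_prime_card (p := p) hS
    haveI : IsMulCommutative (S : Subgroup G) := IsCyclic.commutative
    let A := Subgroup.centralizer ({h} : Set G) ⊓ (S : Subgroup G)
    have hSA : (S : Subgroup G) ≤ Subgroup.centralizer ({h} : Set G) := by
      intro y hy
      obtain ⟨n, hn'⟩ := mem_powers_of_prime_card (G := (S : Subgroup G)) (p := p) hS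
        (g := ⟨x, hx⟩) (g' := ⟨y, hy⟩) (fun e => hx1 (congrArg Subtype.val e))
      have : x ^ n = y := congrArg Subtype.val hn'
      rw [← this]
      exact pow_mem hxc _
    have hhS : h ∉ (S : Subgroup G) := fun e => hh1 (Subgroup.disjoint_def.mp hH.disjoint e hh)
    let B := Subgroup.closure (insert h ((S : Subgroup G) : Set G))
    have hB : ∀ a b : B, a * b = b * a := by
      haveI : IsMulCommutative B := by
        refine Subgroup.isMulCommutative_closure ?_
        intro a ha b hb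
        rcases ha with rfl | ha <;> rcases hb with rfl | hb
        · rfl
        · exact (Subgroup.mem_centralizer_singleton_iff.mp (hSA hb)).symm
        · exact Subgroup.mem_centralizer_singleton_iff.mp (hSA ha)
        · exact congrArg Subtype.val
            (mul_comm' (⟨a, ha⟩ : (S : Subgroup G)) ⟨b, hb⟩)
      exact fun a b => mul_comm' a b
    have hSB : (S : Subgroup G) ≤ B := fun y hy => Subgroup.subset_closure (Or.inr hy)
    have hle := hbound B hB
    rw [← hS] at hle
    exact hhS ((Subgroup.eq_of_le_of_card_ge hSB hle).symm ▸ Subgroup.subset_closure (Or.inl rfl))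


theorem card_eq_charKer (χ : Cfsg.IrrCharacter G) :
    Nat.card {g : G // (χ : G → ℂ) g = (χ : G → ℂ) 1} = Nat.card (charKer χ) :=
  Nat.card_congr (Equiv.subtypeEquivRight fun g => (mem_charKer χ g).symm)

theorem charDegree_congr {H : Type*} [Group H] {f : G → ℂ} {f' : H → ℂ} (h : f 1 = f' 1) :
    Cfsg.charDegree f = Cfsg.charDegree f' := by
  simp [Cfsg.charDegree, h]

/-- The codegree is the index of the kernel divided by the degree, exactly. -/
theorem codegree_spec (χ : Cfsg.IrrCharacter G) :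
    (charKer χ).index =
      Nat.card G / (Nat.card {g : G // (χ : G → ℂ) g = (χ : G → ℂ) 1} * Cfsg.charDegree (χ : G → ℂ)) *
        Cfsg.charDegree (χ : G → ℂ) := by
  haveI := charKer_normal χ
  obtain ⟨χ', hχ'⟩ := exists_deflate' χ (charKer χ) le_rfl
  have hd : Cfsg.charDegree (χ' : G ⧸ charKer χ → ℂ) = Cfsg.charDegree (χ : G → ℂ) :=
    charDegree_congr (hχ' 1)
  have hdvd : Cfsg.charDegree (χ : G → ℂ) ∣ (charKer χ).index := hd ▸ degree_dvd_card χ'
  rw [card_eq_charKer, ← Nat.div_div_eq_div_mul, ← (charKer χ).index_mul_card,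
    Nat.mul_div_cancel _ Nat.card_pos, Nat.div_mul_cancel hdvd]

theorem codegree_dvd (χ : Cfsg.IrrCharacter G) :
    Nat.card G / (Nat.card {g : G // (χ : G → ℂ) g = (χ : G → ℂ) 1} * Cfsg.charDegree (χ : G → ℂ)) ∣
      Nat.card G :=
  (Dvd.intro _ (codegree_spec χ).symm).trans (Subgroup.index_dvd_card _)

theorem exists_linear_prime [Nontrivial G] (h : commutator G ≠ ⊤) :
    ∃ χ : Cfsg.IrrCharacter G,
      (Nat.card G / (Nat.card {g : G // (χ : G → ℂ) g = (χ : G → ℂ) 1} *
        Cfsg.charDegree (χ : G → ℂ))).Prime := by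
  classical
  -- a maximal subgroup above the derived subgroup
  obtain ⟨M, hM, hle⟩ := (eq_top_or_exists_le_coatom (commutator G)).resolve_left h
  haveI hMn : M.Normal := by
    constructor
    intro n hn g
    have : g * n * g⁻¹ * n⁻¹ ∈ commutator G :=
      Subgroup.commutator_mem_commutator (Subgroup.mem_top g) (Subgroup.mem_top n)
    simpa using M.mul_mem (hle this) hn
  haveI hcomm : IsMulCommutative (G ⧸ M) := ⟨⟨fun a b => by
    obtain ⟨a, rfl⟩ := QuotientGroup.mk_surjective a
    obtain ⟨b, rfl⟩ := QuotientGroup.mk_surjective b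
    rw [← QuotientGroup.mk_mul, ← QuotientGroup.mk_mul, QuotientGroup.eq]
    refine hle ?_
    have : b⁻¹ * a⁻¹ * (b⁻¹)⁻¹ * (a⁻¹)⁻¹ ∈ commutator G :=
      Subgroup.commutator_mem_commutator (Subgroup.mem_top _) (Subgroup.mem_top _)
    simpa [mul_assoc] using this⟩⟩
  haveI : Nontrivial (G ⧸ M) := (QuotientGroup.nontrivial_iff (N := M)).mpr hM.1
  have hsimple : ∀ H : Subgroup (G ⧸ M), H = ⊥ ∨ H = ⊤ := by
    intro H
    rcases hM.le_iff.mp (show M ≤ H.comap (QuotientGroup.mk' M) from fun m hm => by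
      rw [Subgroup.mem_comap, QuotientGroup.mk'_apply, (QuotientGroup.eq_one_iff m).mpr hm]
      exact H.one_mem) with e | e
    · right
      rw [← Subgroup.map_comap_eq_self_of_surjective (QuotientGroup.mk'_surjective M) H, e,
        Subgroup.map_top_of_surjective _ (QuotientGroup.mk'_surjective M)]
    · left
      rw [← Subgroup.map_comap_eq_self_of_surjective (QuotientGroup.mk'_surjective M) H, e,
        QuotientGroup.map_mk'_self]
  haveI : IsSimpleGroup (G ⧸ M) := ⟨fun H _ => hsimple H⟩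
  letI : CommGroup (G ⧸ M) := IsMulCommutative.instCommGroup
  have hq : (Nat.card (G ⧸ M)).Prime := IsSimpleGroup.prime_card
  obtain ⟨u, hu⟩ := exists_ne (1 : G ⧸ M)
  haveI : NeZero (Monoid.exponent (G ⧸ M)) := ⟨Monoid.exponent_ne_zero_of_finite⟩
  obtain ⟨φ, hφ⟩ := CommGroup.exists_apply_ne_one_of_hasEnoughRootsOfUnity (G ⧸ M) ℂ hu
  let f : G →* ℂˣ := φ.comp (QuotientGroup.mk' M)
  let χ : Cfsg.IrrCharacter G := ⟨_, isIrr_of_hom f⟩
  have hχ1 : (χ : G → ℂ) 1 = 1 := by simp [χ]
  have hdeg : Cfsg.charDegree (χ : G → ℂ) = 1 := by simp [Cfsg.charDegree, hχ1]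
  have hker : charKer χ = M := by
    have hk : φ.ker = ⊥ := (hsimple _).resolve_right fun e =>
      hφ (MonoidHom.mem_ker.mp (e ▸ Subgroup.mem_top u))
    ext g
    rw [mem_charKer, hχ1, ← QuotientGroup.eq_one_iff (N := M), ← Subgroup.mem_bot, ← hk,
      MonoidHom.mem_ker]
    exact Units.val_eq_one
  refine ⟨χ, ?_⟩
  have := codegree_spec χ
  rw [hdeg, mul_one, hker, Subgroup.index_eq_card] at this
  rw [hdeg, ← this]
  exact hq

theorem perfect_iff [Nontrivial G] : commutator G = ⊤ ↔ ∀ χ : Cfsg.IrrCharacter G,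
    ¬ ((Nat.card G / (Nat.card {g : G // (χ : G → ℂ) g = (χ : G → ℂ) 1} *
      Cfsg.charDegree (χ : G → ℂ)))).Prime := by
  constructor
  · intro hperf χ hp
    haveI := charKer_normal χ
    obtain ⟨χ', hχ'⟩ := exists_deflate' χ (charKer χ) le_rfl
    have hd : Cfsg.charDegree (χ' : G ⧸ charKer χ → ℂ) = Cfsg.charDegree (χ : G → ℂ) :=
      charDegree_congr (hχ' 1)
    set p := Nat.card G / (Nat.card {g : G // (χ : G → ℂ) g = (χ : G → ℂ) 1} *
      Cfsg.charDegree (χ : G → ℂ)) with hpdef
    have hcod : Nat.card (G ⧸ charKer χ) = p * Cfsg.charDegree (χ' : G ⧸ charKer χ → ℂ) := by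
      rw [← Subgroup.index_eq_card, codegree_spec, hd]
    -- a homomorphism of the quotient with nontrivial abelian image
    have key : ∀ (A : Type _) [Group A] (f : G →* A), (∀ a b, f a * f b = f b * f a) →
        ∀ g, f g = 1 := by
      intro A _ f hf g
      have hle : commutator G ≤ f.ker := by
        refine Subgroup.commutator_le.mpr fun a _ b _ => ?_
        rw [MonoidHom.mem_ker, map_commutatorElement, commutatorElement_eq_one_iff_mul_comm]
        exact hf a b
      exact MonoidHom.mem_ker.mp (hle (hperf ▸ Subgroup.mem_top g))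
    rcases prime_codegree χ' hp hcod with ⟨hcyc, hcard⟩ | ⟨P, H, hPn, hP, hPH, hH, hfix⟩
    · haveI := hcyc
      haveI : IsMulCommutative (G ⧸ charKer χ) := IsCyclic.commutative
      have h1 := key (G ⧸ charKer χ) (QuotientGroup.mk' _) fun a b => mul_comm' _ _
      have : Nat.card (G ⧸ charKer χ) = 1 := by
        rw [Nat.card_eq_one_iff_unique]
        refine ⟨⟨fun a b => ?_⟩, ⟨1⟩⟩
        obtain ⟨a, rfl⟩ := QuotientGroup.mk_surjective a
        obtain ⟨b, rfl⟩ := QuotientGroup.mk_surjective b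
        exact (h1 a).trans (h1 b).symm
      exact hp.ne_one (hcard.symm.trans this)
    · haveI : Fact p.Prime := ⟨hp⟩
      haveI : IsCyclic P := isCyclic_of_prime_card (p := p) hP
      have h1 := key (MulAut P) ((MulAut.conjNormal (H := P)).comp (QuotientGroup.mk' _))
        fun a b => (IsCyclic.mulAutMulEquiv P).injective (by simp [mul_comm])
      haveI : Nontrivial H := (Subgroup.nontrivial_iff_ne_bot H).mpr hH
      haveI : Nontrivial P := Finite.one_lt_card_iff_nontrivial.mp (hP ▸ hp.one_lt)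
      obtain ⟨⟨h, hh⟩, hne⟩ := exists_ne (1 : H)
      obtain ⟨g, hg⟩ := QuotientGroup.mk_surjective h
      obtain ⟨⟨x, hx⟩, hxne⟩ := exists_ne (1 : P)
      have hfx : x ∈ P ⊓ Subgroup.centralizer {h} := by
        refine ⟨hx, Subgroup.mem_centralizer_singleton_iff.mpr ?_⟩
        have h2 := congrArg (fun e : MulAut P => ((e ⟨x, hx⟩ : P) : G ⧸ charKer χ)) (h1 g)
        simp [hg] at h2
        exact (mul_inv_eq_iff_eq_mul.mp h2).symm
      rw [hfix h hh (fun e => hne (Subtype.ext e)), Subgroup.mem_bot] at hfx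
      exact hxne (Subtype.ext hfx)
  · intro h
    by_contra hne
    obtain ⟨χ, hχ⟩ := exists_linear_prime hne
    exact h χ hχ

/-- `#S` is divided out by the codegrees of a simple group. -/
theorem simple_dvd {S : Type*} [Group S] [Finite S] (hS : IsSimpleGroup S) (n : ℕ)
    (h : ∀ χ : Cfsg.IrrCharacter S, Nat.card S /
      (Nat.card {g : S // (χ : S → ℂ) g = (χ : S → ℂ) 1} * Cfsg.charDegree (χ : S → ℂ)) ∣ n) :
    Nat.card S ∣ n := by
  classical
  refine (Nat.dvd_iff_prime_pow_dvd_dvd n _).mpr fun q k hq hk => ?_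
  rcases Nat.eq_zero_or_pos k with rfl | hk0
  · simp
  have := Fintype.ofFinite S
  let one : Cfsg.IrrCharacter S := ⟨_, isIrr_of_hom (1 : S →* ℂˣ)⟩
  have hone : Cfsg.charDegree (one : S → ℂ) = 1 := by simp [one, Cfsg.charDegree]
  obtain ⟨χ, hχ1, hχq⟩ : ∃ χ, χ ≠ one ∧ ¬ q ∣ Cfsg.charDegree (χ : S → ℂ) := by
    by_contra hcon
    push Not at hcon
    have hsum := sum_degree_sq (G := S)
    rw [← Finset.add_sum_erase _ _ (Finset.mem_univ one), hone, one_pow] at hsum
    have h1 : q ∣ ∑ χ ∈ Finset.univ.erase one, Cfsg.charDegree (χ : S → ℂ) ^ 2 :=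
      Finset.dvd_sum fun χ hχ => (hcon χ (Finset.ne_of_mem_erase hχ)).pow two_ne_zero
    have h2 : q ∣ Nat.card S := (dvd_pow_self q hk0.ne').trans hk
    exact hq.not_dvd_one ((Nat.dvd_add_left h1).mp (hsum.symm ▸ h2))
  have hker : charKer χ = ⊥ := by
    refine (hS.eq_bot_or_eq_top_of_normal _ (charKer_normal χ)).resolve_right fun e => hχ1 ?_
    have hc : ∀ g, (χ : S → ℂ) g = (χ : S → ℂ) 1 := fun g =>
      (mem_charKer χ g).mp (e ▸ Subgroup.mem_top g)
    have hn := sum_mul_conj_self χ
    simp only [hc, apply_one, map_natCast, Finset.sum_const, Finset.card_univ, nsmul_eq_mul,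
      ← Nat.card_eq_fintype_card] at hn
    have h2 : Nat.card S * (Cfsg.charDegree (χ : S → ℂ) * Cfsg.charDegree (χ : S → ℂ)) =
        Nat.card S * 1 := by
      rw [mul_one]; exact_mod_cast hn
    have h3 := Nat.eq_one_of_mul_eq_one_right (Nat.eq_of_mul_eq_mul_left Nat.card_pos h2)
    refine Subtype.ext (funext fun g => ?_)
    rw [hc g, apply_one, h3]
    simp [one]
  refine dvd_trans ?_ (h χ)
  have hs := codegree_spec χ
  rw [hker, Subgroup.index_bot] at hs
  exact ((hq.coprime_iff_not_dvd.mpr hχq).pow_left k).dvd_of_dvd_mul_right (hs ▸ hk)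

/-- Every prime divisor of the order divides some codegree. -/
theorem exists_prime_dvd_codegree {p : ℕ} (hp : p.Prime) (hdvd : p ∣ Nat.card G) :
    ∃ χ : Cfsg.IrrCharacter G, p ∣ Nat.card G /
      (Nat.card {g : G // (χ : G → ℂ) g = (χ : G → ℂ) 1} * Cfsg.charDegree (χ : G → ℂ)) := by
  classical
  have hs : {K : Subgroup G | K.Normal ∧ p ∣ K.index}.Nonempty :=
    ⟨⊥, inferInstance, by rwa [Subgroup.index_bot]⟩
  obtain ⟨K, hK, hmax⟩ := (Set.toFinite _).exists_maximal hs
  haveI := hK.1
  -- the normal subgroup generated by all proper normal overgroups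
  let S := Finset.univ.filter (fun χ : Cfsg.IrrCharacter G => K ≤ charKer χ)
  by_contra hcon
  push Not at hcon
  -- every member of `S` with kernel exactly `K` has degree divisible by `p`
  have hexact : ∀ χ ∈ S, charKer χ = K → p ∣ Cfsg.charDegree (χ : G → ℂ) := by
    intro χ _ hk
    have := codegree_spec χ
    rw [hk] at this
    exact ((Nat.Prime.dvd_mul hp).mp (this ▸ hK.2)).resolve_left (hcon χ)
  -- hence their squares add up to a multiple of `p`
  have hover : ∀ N : Subgroup G, N.Normal → K < N → ¬ p ∣ N.index := fun N hN hlt hd =>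
    (lt_irrefl N) (lt_of_le_of_lt (hmax ⟨hN, hd⟩ hlt.le) hlt)
  haveI : Nonempty {N : Subgroup G // N.Normal ∧ K < N} := ⟨⟨⊤, inferInstance, lt_top_iff_ne_top.mpr
    fun e => hp.not_dvd_one (by simpa [e] using hK.2)⟩⟩
  obtain ⟨N, hN, hmin⟩ := (Set.toFinite {N : Subgroup G | N.Normal ∧ K < N}).exists_minimal
    (let ⟨N, hN⟩ := Classical.arbitrary {N : Subgroup G // N.Normal ∧ K < N}; ⟨N, hN⟩)
  haveI := hN.1
  have hle : ∀ M : Subgroup G, M.Normal → K < M → N ≤ M := by
    intro M hM hKM
    by_contra hnle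
    haveI := hM
    have he : N ⊓ M = K := by
      by_contra hne
      exact hnle ((hmin ⟨Subgroup.normal_inf_normal N M,
        lt_of_le_of_ne (le_inf hN.2.le hKM.le) (Ne.symm hne)⟩ inf_le_left).trans inf_le_right)
    have h1 := Subgroup.relIndex_mul_index (inf_le_left : N ⊓ M ≤ N)
    rw [Subgroup.inf_relIndex_left, he] at h1
    have h2 := hK.2
    rw [← h1] at h2
    rcases (Nat.Prime.dvd_mul hp).mp h2 with h3 | h3
    · exact hover M hM hKM (h3.trans (Subgroup.relIndex_dvd_index_of_normal M N))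
    · exact hover N hN.1 hN.2 h3
  have hsub : Finset.univ.filter (fun χ : Cfsg.IrrCharacter G => N ≤ charKer χ) ⊆ S := fun χ hχ =>
    Finset.mem_filter.mpr ⟨Finset.mem_univ _, hN.2.le.trans (Finset.mem_filter.mp hχ).2⟩
  have hsum := Finset.sum_sdiff (f := fun χ : Cfsg.IrrCharacter G =>
    Cfsg.charDegree (χ : G → ℂ) ^ 2) hsub
  rw [sum_degree_sq_quotient K, sum_degree_sq_quotient N] at hsum
  have h1 : p ∣ ∑ χ ∈ S \ Finset.univ.filter (fun χ : Cfsg.IrrCharacter G => N ≤ charKer χ),
      Cfsg.charDegree (χ : G → ℂ) ^ 2 := by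
    refine Finset.dvd_sum fun χ hχ => (hexact χ (Finset.mem_sdiff.mp hχ).1 ?_).pow two_ne_zero
    by_contra hne
    have hKle : K ≤ charKer χ := (Finset.mem_filter.mp (Finset.mem_sdiff.mp hχ).1).2
    exact (Finset.mem_sdiff.mp hχ).2 (Finset.mem_filter.mpr
      ⟨Finset.mem_univ _, hle _ (charKer_normal χ) (lt_of_le_of_ne hKle (Ne.symm hne))⟩)
  exact hover N hN.1 hN.2 ((Nat.dvd_add_right h1).mp (hsum ▸ hK.2))


end Cfsg.Agent.Lib.BlocksChars5.Codegree
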