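import Cfsg.Agent.Lib.BlocksChars5.Basic
import Mathlib.RepresentationTheory.Irreducible

/-!
# The functional equation of an irreducible character and products of two commutators
-/

namespace Cfsg.Agent.Lib.BlocksChars5.Commutator

open scoped ComplexConjugate
open Cfsg.Agent.Lib.Characters.Basic Cfsg.Agent.Lib.BlocksChars5.Basic

attribute [local instance] irrFintype

variable {G : Type*} [Group G] [Fintype G] {V : Type*} [AddCommGroup V] [Module ℂ V]
  [FiniteDimensional ℂ V] (ρ : Representation ℂ G V)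

/-- A linear map commuting with an irreducible representation is the scalar `trace / dim`. -/
theorem smul_eq_of_commute [hρ : ρ.IsIrreducible] (T : Module.End ℂ V)
    (hT : ∀ g, T * ρ g = ρ g * T) :
    (Module.finrank ℂ V : ℂ) • T = LinearMap.trace ℂ V T • (1 : Module.End ℂ V) := by
  let f : Representation.IntertwiningMap ρ ρ := ⟨T, fun g => hT g⟩
  obtain ⟨c, hc⟩ :=
    (Representation.IsIrreducible.algebraMap_intertwiningMap_bijective_of_isAlgClosed (ρ := ρ)).2 f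
  have hT' : T = c • (1 : Module.End ℂ V) := by
    have := congrArg Representation.IntertwiningMap.toLinearMap hc
    simp only [Representation.IntertwiningMap.algebraMap_apply,
      Representation.IntertwiningMap.toLinearMap_smul] at this
    exact this.symm
  rw [hT', map_smul, LinearMap.trace_one, smul_smul, smul_eq_mul, mul_comm]

theorem sum_char_conj [ρ.IsIrreducible] (x y : G) :
    (Module.finrank ℂ V : ℂ) * ∑ b : G, ρ.character (b * x * b⁻¹ * y) =
      Fintype.card G * (ρ.character x * ρ.character y) := by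
  set T : Module.End ℂ V := ∑ b : G, ρ (b * x * b⁻¹) with hT
  have hc : ∀ g, T * ρ g = ρ g * T := by
    intro g
    rw [hT, Finset.sum_mul, Finset.mul_sum]
    simp only [← map_mul]
    exact (Fintype.sum_equiv (Equiv.mulLeft g) _ _ fun b => by simp [mul_assoc]).symm
  have h := congrArg (fun S : Module.End ℂ V => LinearMap.trace ℂ V (S * ρ y))
    (smul_eq_of_commute ρ T hc)
  simp only [smul_mul_assoc, map_smul, one_mul, smul_eq_mul] at h
  have h1 : LinearMap.trace ℂ V (T * ρ y) = ∑ b : G, ρ.character (b * x * b⁻¹ * y) := by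
    rw [hT, Finset.sum_mul, map_sum]
    exact Finset.sum_congr rfl fun b _ => by rw [← map_mul]; rfl
  have h2 : LinearMap.trace ℂ V T = (Fintype.card G : ℂ) * ρ.character x := by
    rw [hT, map_sum]
    simp only [show ∀ b : G, LinearMap.trace ℂ V (ρ (b * x * b⁻¹)) = ρ.character x from
      fun b => ρ.char_conj x b, Finset.sum_const, Finset.card_univ, nsmul_eq_mul]
  rw [h1, h2] at h
  rw [h]
  show _ * LinearMap.trace ℂ V (ρ y) = _ * (_ * LinearMap.trace ℂ V (ρ y))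
  ring

theorem sum_char_conv [ρ.IsIrreducible] (x : G) :
    (Module.finrank ℂ V : ℂ) * ∑ a : G, ρ.character a⁻¹ * ρ.character (a * x) =
      Fintype.card G * ρ.character x := by
  set T : Module.End ℂ V := ∑ a : G, ρ.character a⁻¹ • ρ a with hT
  have hc : ∀ g, T * ρ g = ρ g * T := by
    intro g
    rw [hT, Finset.sum_mul, Finset.mul_sum]
    simp only [smul_mul_assoc, mul_smul_comm, ← map_mul]
    refine Fintype.sum_equiv ((MulAut.conj g⁻¹).toEquiv) _ _ fun a => ?_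
    have : ρ.character ((g⁻¹ * a * g)⁻¹) = ρ.character a⁻¹ := by
      rw [mul_inv_rev, mul_inv_rev, inv_inv, ← mul_assoc]
      simpa using ρ.char_conj a⁻¹ g⁻¹
    show _ = ρ.character (g⁻¹ * a * g⁻¹⁻¹)⁻¹ • ρ (g * (g⁻¹ * a * g⁻¹⁻¹))
    rw [inv_inv, this]
    simp [mul_assoc]
  have h := congrArg (fun S : Module.End ℂ V => LinearMap.trace ℂ V (S * ρ x))
    (smul_eq_of_commute ρ T hc)
  simp only [smul_mul_assoc, map_smul, one_mul, smul_eq_mul] at h
  have h2 : LinearMap.trace ℂ V T = (Fintype.card G : ℂ) := by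
    have hs := Representation.char_orthonormal ρ ρ (k := ℂ)
    rw [if_pos ⟨Representation.Equiv.refl ρ⟩, Nat.card_eq_fintype_card] at hs
    rw [hT, map_sum]
    have hne : (Fintype.card G : ℂ) ≠ 0 := Nat.cast_ne_zero.mpr Fintype.card_ne_zero
    rw [inv_mul_eq_iff_eq_mul₀ hne, mul_one] at hs
    rw [← hs]
    exact Finset.sum_congr rfl fun a _ => by rw [map_smul, smul_eq_mul, mul_comm]; rfl
  have h1 : LinearMap.trace ℂ V (T * ρ x) = ∑ a : G, ρ.character a⁻¹ * ρ.character (a * x) := by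
    rw [hT, Finset.sum_mul, map_sum]
    exact Finset.sum_congr rfl fun a _ => by
      rw [smul_mul_assoc, ← map_mul, map_smul, smul_eq_mul]; rfl
  rw [h1, h2] at h
  exact h

theorem sum_char_commutator [ρ.IsIrreducible] (x : G) :
    (Module.finrank ℂ V : ℂ) ^ 2 * ∑ a : G, ∑ b : G, ρ.character (a * b * a⁻¹ * b⁻¹ * x) =
      (Fintype.card G : ℂ) ^ 2 * ρ.character x := by
  -- move `a` to the right of the conjugate of `a⁻¹`
  have key : ∀ a : G, ∑ b : G, ρ.character (a * b * a⁻¹ * b⁻¹ * x) =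
      ∑ b : G, ρ.character (b * a⁻¹ * b⁻¹ * (x * a)) := fun a =>
    Finset.sum_congr rfl fun b _ => by
      rw [show b * a⁻¹ * b⁻¹ * (x * a) = (b * a⁻¹ * b⁻¹ * x) * a by group,
        show a * b * a⁻¹ * b⁻¹ * x = a * (b * a⁻¹ * b⁻¹ * x) by group, ρ.char_mul_comm]
  simp only [key]
  rw [sq, mul_assoc, Finset.mul_sum, Finset.sum_congr rfl (fun a _ => sum_char_conj ρ a⁻¹ (x * a)),
    ← Finset.mul_sum, mul_left_comm,
    Finset.sum_congr rfl (fun a _ => by rw [ρ.char_mul_comm a x]), sum_char_conv ρ x]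
  ring

theorem irr_commutator {χ : G → ℂ} (hχ : Cfsg.IsIrrCharacter G χ) (x : G) :
    χ 1 ^ 2 * ∑ a : G, ∑ b : G, χ (a * b * a⁻¹ * b⁻¹ * x) = (Fintype.card G : ℂ) ^ 2 * χ x := by
  obtain ⟨n, σ, hσ, rfl⟩ := hχ
  haveI := hσ
  rw [Representation.char_one]
  exact sum_char_commutator σ x

theorem two_commutators (h : ∑ᶠ χ : Cfsg.IrrCharacter G, 1 / ‖(χ : G → ℂ) 1‖ ^ 2 < (2 : ℝ))
    (g : G) : ∃ a b c d : G, (a * b * a⁻¹ * b⁻¹) * (c * d * c⁻¹ * d⁻¹) = g := by
  classical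
  by_contra hcon
  push Not at hcon
  have hne : ∀ a b c d : G, a * b * a⁻¹ * b⁻¹ * (c * d * c⁻¹ * d⁻¹ * g⁻¹) ≠ 1 := fun a b c d e =>
    hcon a b c d (by rw [← mul_assoc, mul_inv_eq_one] at e; exact e)
  have h1 : ∀ χ : Cfsg.IrrCharacter G, (χ : G → ℂ) 1 ≠ 0 := fun χ => by
    obtain ⟨n, σ, hσ, e⟩ := χ.2
    haveI := hσ
    rw [← e, Representation.char_one]
    intro h0
    have hn : n = 0 := by simpa using h0
    subst hn
    exact not_subsingleton (Subrepresentation σ)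
      ⟨fun p q => Subrepresentation.toSubmodule_injective (Subsingleton.elim _ _)⟩
  have key : ∑ χ : Cfsg.IrrCharacter G, (χ : G → ℂ) g⁻¹ / (χ : G → ℂ) 1 ^ 3 = 0 := by
    have h0 : ∀ χ : Cfsg.IrrCharacter G,
        ∑ a : G, ∑ b : G, ∑ c : G, ∑ d : G,
          (χ : G → ℂ) 1 * (χ : G → ℂ) (a * b * a⁻¹ * b⁻¹ * (c * d * c⁻¹ * d⁻¹ * g⁻¹)) =
        (Fintype.card G : ℂ) ^ 4 * ((χ : G → ℂ) g⁻¹ / (χ : G → ℂ) 1 ^ 3) := by
      intro χ
      have e : ∀ y, ∑ a : G, ∑ b : G, (χ : G → ℂ) (a * b * a⁻¹ * b⁻¹ * y) =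
          (Fintype.card G : ℂ) ^ 2 * (χ : G → ℂ) y / (χ : G → ℂ) 1 ^ 2 := fun y => by
        rw [eq_div_iff (pow_ne_zero 2 (h1 χ)), mul_comm, irr_commutator χ.2 y]
      have sw : ∀ F : G → G → G → G → ℂ, ∑ a, ∑ b, ∑ c, ∑ d, F a b c d =
          ∑ c, ∑ d, ∑ a, ∑ b, F a b c d := fun F => by
        rw [Finset.sum_congr rfl (fun a _ => Finset.sum_comm), Finset.sum_comm]
        refine Finset.sum_congr rfl fun c _ => ?_
        rw [Finset.sum_congr rfl (fun a _ => Finset.sum_comm), Finset.sum_comm]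
      rw [sw]
      simp only [← Finset.mul_sum, e, ← Finset.sum_div]
      field_simp [h1 χ]
    have hz : (Fintype.card G : ℂ) ^ 4 *
        ∑ χ : Cfsg.IrrCharacter G, (χ : G → ℂ) g⁻¹ / (χ : G → ℂ) 1 ^ 3 = 0 := by
      rw [Finset.mul_sum, Finset.sum_congr rfl (fun χ _ => (h0 χ).symm)]
      simp only [Finset.sum_comm (s := (Finset.univ : Finset (Cfsg.IrrCharacter G)))]
      simp [Cfsg.Agent.Lib.Characters.Complete.sum_degree_mul_apply, hne]
    exact (mul_eq_zero.mp hz).resolve_left (pow_ne_zero _ (Nat.cast_ne_zero.mpr Fintype.card_ne_zero))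
  let one : Cfsg.IrrCharacter G := oneChar G
  rw [← Finset.add_sum_erase _ _ (Finset.mem_univ one)] at key
  simp only [one, oneChar_apply, one_pow, div_one] at key
  rw [finsum_eq_sum_of_fintype, ← Finset.add_sum_erase _ _ (Finset.mem_univ one)] at h
  simp only [one, oneChar_apply, norm_one, one_pow, div_one] at h
  have h2 : (1 : ℝ) ≤ ∑ χ ∈ Finset.univ.erase one, ‖(χ : G → ℂ) g⁻¹ / (χ : G → ℂ) 1 ^ 3‖ := by
    refine le_trans (le_of_eq ?_) (norm_sum_le _ _)
    rw [eq_neg_of_add_eq_zero_right key, norm_neg, norm_one]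
  have h3 : ∑ χ ∈ Finset.univ.erase one, ‖(χ : G → ℂ) g⁻¹ / (χ : G → ℂ) 1 ^ 3‖ ≤
      ∑ χ ∈ Finset.univ.erase one, 1 / ‖(χ : G → ℂ) 1‖ ^ 2 := by
    refine Finset.sum_le_sum fun χ _ => ?_
    have hp : 0 < ‖(χ : G → ℂ) 1‖ := norm_pos_iff.mpr (h1 χ)
    rw [norm_div, norm_pow, div_le_div_iff₀ (by positivity) (by positivity), one_mul]
    calc ‖(χ : G → ℂ) g⁻¹‖ * ‖(χ : G → ℂ) 1‖ ^ 2 ≤ ‖(χ : G → ℂ) 1‖ * ‖(χ : G → ℂ) 1‖ ^ 2 :=
          mul_le_mul_of_nonneg_right (norm_apply_le (isCharacter_irr χ) g⁻¹) (by positivity)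
      _ = ‖(χ : G → ℂ) 1‖ ^ 3 := by ring
  linarith


end Cfsg.Agent.Lib.BlocksChars5.Commutator
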