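import Cfsg.Agent.Lib.BlocksChars5.Basic
import Mathlib.GroupTheory.GroupAction.ConjAct
import Mathlib.GroupTheory.Nilpotent

/-!
# Irreducible characters that are nonzero on exactly two classes (Gagola)
-/

namespace Cfsg.Agent.Lib.BlocksChars5.Gagola

open scoped ComplexConjugate
open Cfsg.Agent.Lib.Characters.Basic Cfsg.Agent.Lib.BlocksChars5.Basic

attribute [local instance] irrFintype

variable {G : Type*} [Group G] [Finite G]


/-- The set-up: `χ` is nonzero exactly at `1` and at the conjugates of `k`. -/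
def TwoClass (χ : Cfsg.IrrCharacter G) (k : G) : Prop :=
  k ≠ 1 ∧ ∀ g : G, (χ : G → ℂ) g ≠ 0 ↔ g = 1 ∨ IsConj k g

theorem exists_twoClass {χ : Cfsg.IrrCharacter G}
    (hχ : Nat.card {C : ConjClasses G // ∃ g ∈ C.carrier, (χ : G → ℂ) g ≠ 0} = 2) :
    ∃ k, TwoClass χ k := by
  obtain ⟨C, hC1, hC2⟩ := (Nat.card_eq_two_iff'
    (⟨ConjClasses.mk 1, 1, ConjClasses.mem_carrier_mk, apply_one_ne_zero χ⟩ :
      {C : ConjClasses G // ∃ g ∈ C.carrier, (χ : G → ℂ) g ≠ 0})).mp hχ
  obtain ⟨k, hk, hk0⟩ := C.2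
  have hkC : ConjClasses.mk k = C.1 := ConjClasses.mem_carrier_iff_mk_eq.mp hk
  refine ⟨k, ?_, fun g => ⟨fun hg => ?_, ?_⟩⟩
  · rintro rfl
    exact hC1 (Subtype.ext hkC.symm)
  · by_cases h1 : g = 1
    · exact Or.inl h1
    · refine Or.inr ?_
      have := hC2 ⟨ConjClasses.mk g, g, ConjClasses.mem_carrier_mk, hg⟩ (fun h => h1 ?_)
      · exact ConjClasses.mk_eq_mk_iff_isConj.mp
          (hkC.trans (congrArg Subtype.val this).symm)
      · have := ConjClasses.mk_eq_mk_iff_isConj.mp (congrArg Subtype.val h)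
        exact isConj_one_left.mp this
  · rintro (rfl | hg)
    · exact apply_one_ne_zero χ
    · rw [eq_of_isConj χ hg]; exact hk0

theorem twoClass_unique_card {χ : Cfsg.IrrCharacter G} {k : G} (_h : TwoClass χ k) :
    0 < Nat.card {g : G // IsConj k g} :=
  haveI : Nonempty {g : G // IsConj k g} := ⟨⟨k, IsConj.refl k⟩⟩
  Nat.card_pos

/-- A sum against `χ` only sees `1` and the class of `k`. -/
theorem sum_mul [Fintype G] {χ : Cfsg.IrrCharacter G} {k : G} (h : TwoClass χ k) (f : G → ℂ)
    (hf : ∀ g, IsConj k g → f g = f k) :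
    ∑ g : G, f g * conj ((χ : G → ℂ) g) =
      f 1 * conj ((χ : G → ℂ) 1) + (Nat.card {g : G // IsConj k g} : ℂ) * (f k * conj ((χ : G → ℂ) k)) := by
  classical
  have hs : ∑ g : G, f g * conj ((χ : G → ℂ) g) =
      ∑ g ∈ insert 1 (Finset.univ.filter (IsConj k)), f g * conj ((χ : G → ℂ) g) := by
    refine (Finset.sum_subset (Finset.subset_univ _) fun g _ hg => ?_).symm
    have : (χ : G → ℂ) g = 0 := by
      by_contra h0
      exact hg (by simpa using (h.2 g).mp h0)
    simp [this]
  have h1 : (1 : G) ∉ Finset.univ.filter (IsConj k) := by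
    simp only [Finset.mem_filter, Finset.mem_univ, true_and]
    exact fun hc => h.1 (isConj_one_right.mp (isConj_comm.mp hc))
  rw [hs, Finset.sum_insert h1]
  congr 1
  rw [Finset.sum_congr rfl (fun g hg => by
    have hg' : IsConj k g := (Finset.mem_filter.mp hg).2
    rw [hf g hg', eq_of_isConj χ hg']), Finset.sum_const, nsmul_eq_mul]
  congr 2
  rw [Nat.card_eq_fintype_card, Fintype.card_subtype]

theorem val_k {χ : Cfsg.IrrCharacter G} {k : G} (hG : 2 < Nat.card G) (h : TwoClass χ k) :
    (χ : G → ℂ) k = -((χ : G → ℂ) 1 / (Nat.card {g : G // IsConj k g} : ℂ)) := by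
  classical
  have := Fintype.ofFinite G
  set c : ℂ := (Nat.card {g : G // IsConj k g} : ℂ) with hcdef
  have hc : c ≠ 0 := Nat.cast_ne_zero.mpr (twoClass_unique_card h).ne'
  let one : Cfsg.IrrCharacter G := oneChar G
  have hne : one ≠ χ := by
    intro he
    have hall : ∀ g : G, g = 1 ∨ IsConj k g := fun g => (h.2 g).mp (by rw [← he]; exact one_ne_zero)
    have hcl : Nat.card {g : G // IsConj k g} + 1 = Nat.card G := by
      have : {g : G | IsConj k g}ᶜ = {1} := by
        ext g
        simp only [Set.mem_compl_iff, Set.mem_setOf_eq, Set.mem_singleton_iff]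
        refine ⟨fun hn => (hall g).resolve_right hn, ?_⟩
        rintro rfl
        exact fun hc => h.1 (isConj_one_right.mp (isConj_comm.mp hc))
      have h2 := Set.ncard_add_ncard_compl {g : G | IsConj k g}
      rw [this, Set.ncard_singleton] at h2
      rw [← Nat.card_coe_set_eq] at h2
      exact h2
    have hdvd : Nat.card {g : G // IsConj k g} ∣ Nat.card G := by
      have e := (MulAction.stabilizer (ConjAct G) k).index_mul_card
      rw [MulAction.index_stabilizer] at e
      rw [show Nat.card {g : G // IsConj k g} = (MulAction.orbit (ConjAct G) k).ncard by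
        rw [← Nat.card_coe_set_eq]
        exact Nat.card_congr (Equiv.subtypeEquivRight fun g => by
          rw [ConjAct.mem_orbit_conjAct, isConj_comm])]
      exact ⟨_, e.symm⟩
    rw [← hcl] at hdvd hG
    have := Nat.le_of_dvd one_pos ((Nat.dvd_add_right (dvd_refl _)).mp hdvd)
    omega
  have h0 := sum_mul_conj_irr one χ
  simp only [one, oneChar_apply] at h0
  rw [if_neg hne, sum_mul h (fun _ => (1 : ℂ)) (fun _ _ => rfl)] at h0
  simp only [one_mul] at h0
  rw [apply_one χ, map_natCast] at h0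
  have h1 : conj ((χ : G → ℂ) k) = -((Cfsg.charDegree (χ : G → ℂ) : ℂ) / c) := by
    rw [neg_div', eq_div_iff hc]
    linear_combination h0
  have := congrArg conj h1
  simpa [hcdef, apply_one χ] using this

theorem other_val {χ ψ : Cfsg.IrrCharacter G} {k : G} (hG : 2 < Nat.card G) (h : TwoClass χ k)
    (hne : ψ ≠ χ) : (ψ : G → ℂ) k = (ψ : G → ℂ) 1 := by
  classical
  have := Fintype.ofFinite G
  have hc : (Nat.card {g : G // IsConj k g} : ℂ) ≠ 0 :=
    Nat.cast_ne_zero.mpr (twoClass_unique_card h).ne'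
  have h0 := sum_mul_conj_irr ψ χ
  rw [if_neg hne, sum_mul h _ (fun g hg => eq_of_isConj ψ hg), val_k hG h, apply_one χ] at h0
  simp only [map_neg, map_div₀, map_natCast] at h0
  field_simp at h0
  have hd : (Cfsg.charDegree (χ : G → ℂ) : ℂ) ≠ 0 := Nat.cast_ne_zero.mpr (degree_pos χ).ne'
  have : (Cfsg.charDegree (χ : G → ℂ) : ℂ) * ((ψ : G → ℂ) 1 - (ψ : G → ℂ) k) = 0 := by
    linear_combination h0
  have := (mul_eq_zero.mp this).resolve_left hd
  linear_combination -this

theorem norm_eq {χ : Cfsg.IrrCharacter G} {k : G} (hG : 2 < Nat.card G) (h : TwoClass χ k) :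
    Cfsg.charDegree (χ : G → ℂ) ^ 2 * (Nat.card {g : G // IsConj k g} + 1) =
      Nat.card G * Nat.card {g : G // IsConj k g} := by
  classical
  have := Fintype.ofFinite G
  have hc : (Nat.card {g : G // IsConj k g} : ℂ) ≠ 0 :=
    Nat.cast_ne_zero.mpr (twoClass_unique_card h).ne'
  have h0 := sum_mul_conj_irr χ χ
  rw [if_pos rfl, sum_mul h _ (fun g hg => eq_of_isConj χ hg), val_k hG h, apply_one χ] at h0
  simp only [map_neg, map_div₀, map_natCast] at h0
  field_simp at h0
  exact_mod_cast (show ((Cfsg.charDegree (χ : G → ℂ) : ℂ) ^ 2 * ((Nat.card {g : G // IsConj k g} : ℂ) + 1)) =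
      (Nat.card G : ℂ) * (Nat.card {g : G // IsConj k g} : ℂ) by linear_combination h0)

theorem faithful {χ : Cfsg.IrrCharacter G} {k : G} (hG : 2 < Nat.card G) (h : TwoClass χ k)
    {g : G} (hg : (χ : G → ℂ) g = (χ : G → ℂ) 1) : g = 1 := by
  rcases (h.2 g).mp (by rw [hg]; exact apply_one_ne_zero χ) with h1 | h1
  · exact h1
  · rw [eq_of_isConj χ h1, val_k hG h] at hg
    have hc : (Nat.card {g : G // IsConj k g} : ℂ) ≠ 0 :=
      Nat.cast_ne_zero.mpr (twoClass_unique_card h).ne'
    field_simp at hg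
    have : (χ : G → ℂ) 1 * ((Nat.card {g : G // IsConj k g} + 1 : ℕ) : ℂ) = 0 := by
      push_cast
      linear_combination -hg
    rcases mul_eq_zero.mp this with h2 | h2
    · exact absurd h2 (apply_one_ne_zero χ)
    · exact absurd h2 (Nat.cast_ne_zero.mpr (Nat.succ_ne_zero _))

/-- The support of `χ`, as the intersection of the kernels of the other irreducible characters. -/
noncomputable def supp (χ : Cfsg.IrrCharacter G) : Subgroup G :=
  ⨅ ψ : {ψ : Cfsg.IrrCharacter G // ψ ≠ χ}, charKer ψ.1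

theorem mem_supp {χ : Cfsg.IrrCharacter G} {g : G} :
    g ∈ supp χ ↔ ∀ ψ : Cfsg.IrrCharacter G, ψ ≠ χ → (ψ : G → ℂ) g = (ψ : G → ℂ) 1 := by
  simp [supp, Subgroup.mem_iInf, mem_charKer]

theorem supp_normal (χ : Cfsg.IrrCharacter G) : (supp χ).Normal :=
  ⟨fun n hn g => mem_supp.mpr fun ψ hψ => by rw [conj_invariant ψ n g, mem_supp.mp hn ψ hψ]⟩

theorem mem_supp_iff {χ : Cfsg.IrrCharacter G} {k : G} (hG : 2 < Nat.card G) (h : TwoClass χ k)
    (g : G) : g ∈ supp χ ↔ g = 1 ∨ IsConj k g := by
  classical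
  constructor
  · intro hg
    by_contra hn
    push Not at hn
    have h0 : (χ : G → ℂ) g = 0 := by
      by_contra hh
      rcases (h.2 g).mp hh with h1 | h1
      · exact hn.1 h1
      · exact hn.2 h1
    have hcol := second_orthogonality g (1 : G)
    rw [if_neg (fun hc => hn.1 (isConj_one_left.mp hc)),
      ← Finset.add_sum_erase _ _ (Finset.mem_univ χ), h0, zero_mul, zero_add] at hcol
    have hcol1 := second_orthogonality (1 : G) (1 : G)
    have hsum : ∑ ψ ∈ Finset.univ.erase χ, (ψ : G → ℂ) 1 * conj ((ψ : G → ℂ) 1) = 0 := by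
      rw [← hcol]
      exact Finset.sum_congr rfl fun ψ hψ => by rw [mem_supp.mp hg ψ (Finset.ne_of_mem_erase hψ)]
    rw [if_pos (IsConj.refl _), ← Finset.add_sum_erase _ _ (Finset.mem_univ χ), hsum, add_zero,
      apply_one χ, map_natCast] at hcol1
    have hcent : Nat.card (Subgroup.centralizer ({(1 : G)} : Set G)) = Nat.card G := by
      rw [show Subgroup.centralizer ({(1 : G)} : Set G) = ⊤ by
        ext x; simp [Subgroup.mem_centralizer_singleton_iff], Subgroup.card_top]
    rw [hcent] at hcol1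
    have hd : Cfsg.charDegree (χ : G → ℂ) ^ 2 = Nat.card G := by
      rw [sq]; exact_mod_cast hcol1
    have := norm_eq hG h
    rw [hd] at this
    have := Nat.eq_of_mul_eq_mul_left (by omega) this
    omega
  · rintro (rfl | hg)
    · exact one_mem _
    · exact mem_supp.mpr fun ψ hψ => by rw [eq_of_isConj ψ hg, other_val hG h hψ]

theorem mem_supp_iff' {χ : Cfsg.IrrCharacter G} {k : G} (hG : 2 < Nat.card G) (h : TwoClass χ k)
    (g : G) : g ∈ supp χ ↔ (χ : G → ℂ) g ≠ 0 := by
  rw [mem_supp_iff hG h, h.2]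

theorem supp_ne_bot {χ : Cfsg.IrrCharacter G} {k : G} (hG : 2 < Nat.card G) (h : TwoClass χ k) :
    supp χ ≠ ⊥ := fun hb => h.1 (by
  have := (mem_supp_iff hG h k).mpr (Or.inr (IsConj.refl k))
  rwa [hb, Subgroup.mem_bot] at this)

theorem card_supp {χ : Cfsg.IrrCharacter G} {k : G} (hG : 2 < Nat.card G) (h : TwoClass χ k) :
    Nat.card (supp χ) = Nat.card {g : G // IsConj k g} + 1 := by
  classical
  have h1 : ((supp χ : Set G)) = insert 1 {g : G | IsConj k g} := by
    ext g; simp [mem_supp_iff hG h]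
  rw [← SetLike.coe_sort_coe, Nat.card_coe_set_eq, h1, Set.ncard_insert_of_notMem]
  · rw [← Nat.card_coe_set_eq]; rfl
  · exact fun hc => h.1 (isConj_one_right.mp (isConj_comm.mp hc))

theorem supp_conj {χ : Cfsg.IrrCharacter G} {k : G} (hG : 2 < Nat.card G) (h : TwoClass χ k)
    {x y : G} (hx : x ∈ supp χ) (hy : y ∈ supp χ) (hx1 : x ≠ 1) (hy1 : y ≠ 1) :
    IsConj x y :=
  (((mem_supp_iff hG h x).mp hx).resolve_left hx1).symm.trans
    (((mem_supp_iff hG h y).mp hy).resolve_left hy1)

theorem supp_le {χ : Cfsg.IrrCharacter G} {k : G} (hG : 2 < Nat.card G) (h : TwoClass χ k)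
    (M : Subgroup G) (hM : M.Normal) (hne : M ≠ ⊥) : supp χ ≤ M := by
  intro n hn
  by_contra hnm
  obtain ⟨ψ, hψM, hψn⟩ := exists_not_mem_charKer M n hnm
  have : ψ ≠ χ := by
    rintro rfl
    exact hne ((Subgroup.eq_bot_iff_forall M).mpr fun m hm => faithful hG h (hψM hm))
  exact hψn (mem_supp.mp hn ψ this)

theorem unique_faithful {χ ψ : Cfsg.IrrCharacter G} {k : G} (hG : 2 < Nat.card G)
    (h : TwoClass χ k) (hψ : ∀ g, (ψ : G → ℂ) g = (ψ : G → ℂ) 1 → g = 1) : ψ = χ := by
  by_contra hne
  exact h.1 (hψ k (other_val hG h hne))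

/-- Elements of a coset outside the support are conjugate. -/
theorem coset_conj {χ : Cfsg.IrrCharacter G} {k : G} (hG : 2 < Nat.card G) (h : TwoClass χ k)
    {x n : G} (hx : x ∉ supp χ) (hn : n ∈ supp χ) : IsConj (x * n) x := by
  classical
  by_contra hnc
  have hxn : x * n ∉ supp χ := fun hh => hx ((Subgroup.mul_mem_cancel_right _ hn).mp hh)
  have h1 : ∀ ψ : Cfsg.IrrCharacter G, (ψ : G → ℂ) (x * n) = (ψ : G → ℂ) x := by
    intro ψ
    by_cases hψ : ψ = χ
    · subst hψ
      rw [not_not.mp (fun hh => hxn ((mem_supp_iff' hG h _).mpr hh)),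
        not_not.mp (fun hh => hx ((mem_supp_iff' hG h _).mpr hh))]
    · exact apply_mul_of_mem ψ x n ((mem_charKer ψ n).mpr (mem_supp.mp hn ψ hψ))
  have e1 := second_orthogonality (x * n) x
  have e2 := second_orthogonality x x
  simp only [h1] at e1
  rw [if_neg hnc] at e1
  rw [if_pos (IsConj.refl x), e1] at e2
  exact (Nat.card_pos (α := Subgroup.centralizer ({x} : Set G))).ne (by exact_mod_cast e2)

theorem two_le_card_class_add {χ : Cfsg.IrrCharacter G} {k : G} (h : TwoClass χ k) :
    2 ≤ Nat.card {g : G // IsConj k g} + 1 := by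
  have := twoClass_unique_card h
  omega

theorem class_mul_centralizer (k : G) :
    Nat.card {g : G // IsConj k g} * Nat.card (Subgroup.centralizer ({k} : Set G)) = Nat.card G := by
  have e := (MulAction.stabilizer (ConjAct G) k).index_mul_card
  rw [MulAction.index_stabilizer] at e
  rw [show Nat.card {g : G // IsConj k g} = (MulAction.orbit (ConjAct G) k).ncard by
      rw [← Nat.card_coe_set_eq]
      exact Nat.card_congr (Equiv.subtypeEquivRight fun g => by
        rw [ConjAct.mem_orbit_conjAct, isConj_comm]),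
    show Nat.card (Subgroup.centralizer ({k} : Set G)) =
      Nat.card (MulAction.stabilizer (ConjAct G) k) by
        rw [Subgroup.centralizer_eq_comap_stabilizer]; rfl, e]
  rfl

theorem isConj_orderOf {x y : G} (hxy : IsConj x y) : orderOf x = orderOf y := by
  obtain ⟨c, rfl⟩ := isConj_iff.mp hxy
  exact ((MulAut.conj c).orderOf_eq x).symm

theorem orderOf_eq_of_mem_supp {χ : Cfsg.IrrCharacter G} {k : G} (hG : 2 < Nat.card G)
    (h : TwoClass χ k) {x : G} (hx : x ∈ supp χ) (hx1 : x ≠ 1) : orderOf x = orderOf k :=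
  isConj_orderOf (supp_conj hG h hx ((mem_supp_iff hG h k).mpr (Or.inr (IsConj.refl k))) hx1 h.1)

theorem supp_pGroup {χ : Cfsg.IrrCharacter G} {k : G} (hG : 2 < Nat.card G) (h : TwoClass χ k) :
    (orderOf k).Prime ∧ IsPGroup (orderOf k) (supp χ) := by
  have hk : k ∈ supp χ := (mem_supp_iff hG h k).mpr (Or.inr (IsConj.refl k))
  have h1 : orderOf k ≠ 1 := fun e => h.1 (orderOf_eq_one_iff.mp e)
  have hp : (orderOf k).Prime := by
    obtain ⟨p, hp, hdvd⟩ := Nat.exists_prime_and_dvd h1
    set m := k ^ (orderOf k / p) with hm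
    have hmo : orderOf m = p := by
      rw [hm, orderOf_pow_orderOf_div (orderOf_pos k).ne' hdvd]
    have hm1 : m ≠ 1 := fun e => hp.ne_one (by rw [← hmo, e, orderOf_one])
    rwa [← orderOf_eq_of_mem_supp hG h (pow_mem hk _) hm1, hmo]
  refine ⟨hp, fun x => ⟨1, ?_⟩⟩
  rw [pow_one]
  by_cases hx : (x : G) = 1
  · have : x = 1 := Subtype.ext hx
    simp [this]
  · apply Subtype.ext
    push_cast
    rw [← orderOf_eq_of_mem_supp hG h x.2 hx, pow_orderOf_eq_one]

theorem supp_comm {χ : Cfsg.IrrCharacter G} {k : G} (hG : 2 < Nat.card G) (h : TwoClass χ k) :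
    ∀ a ∈ supp χ, ∀ b ∈ supp χ, a * b = b * a := by
  obtain ⟨hp, hpg⟩ := supp_pGroup hG h
  haveI : Fact (orderOf k).Prime := ⟨hp⟩
  haveI := supp_normal χ
  haveI : Nontrivial (supp χ) := (Subgroup.nontrivial_iff_ne_bot _).mpr (supp_ne_bot hG h)
  have hz : (Subgroup.center (supp χ)).map (supp χ).subtype ≠ ⊥ := by
    rw [Ne, Subgroup.map_eq_bot_iff_of_injective _ (Subgroup.subtype_injective _)]
    exact (Subgroup.nontrivial_iff_ne_bot _).mp hpg.center_nontrivial
  have hle := supp_le hG h _ (ConjAct.normal_of_characteristic_of_normal) hz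
  intro a ha b hb
  obtain ⟨z, hz', hza⟩ := Subgroup.mem_map.mp (hle ha)
  have hc := congrArg ((↑) : supp χ → G) (Subgroup.mem_center_iff.mp hz' ⟨b, hb⟩)
  rw [← hza]
  simpa using hc.symm

/-- The centraliser of a nontrivial element of the support contains no element of order prime to
that of the element. -/
theorem centralizer_pGroup {χ : Cfsg.IrrCharacter G} {k : G} (hG : 2 < Nat.card G)
    (h : TwoClass χ k) {p : ℕ} [Fact p.Prime] (hpg : IsPGroup p (supp χ)) {x : G}
    (hx : x ∈ supp χ) (hx1 : x ≠ 1) : IsPGroup p (Subgroup.centralizer ({x} : Set G)) := by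
  have hox : p ∣ orderOf x := by
    obtain ⟨j, hj⟩ := (Nat.dvd_prime_pow (Fact.out (p := p.Prime))).mp
      (orderOf_dvd_of_pow_eq_one (Classical.choose_spec (hpg ⟨x, hx⟩)))
    have : orderOf x = p ^ j := (Subgroup.orderOf_mk x hx).symm.trans hj.2
    rcases Nat.eq_zero_or_pos j with rfl | hpos
    · exact absurd (orderOf_eq_one_iff.mp (by simpa using this)) hx1
    · exact this ▸ dvd_pow_self p hpos.ne'
  intro y
  set q := orderOf y with hq
  by_cases hall : ∃ j, q = p ^ j
  · obtain ⟨j, hj⟩ := hall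
    exact ⟨j, by rw [← hj, pow_orderOf_eq_one]⟩
  exfalso
  obtain ⟨r, hr, hrd, hrp⟩ : ∃ r, r.Prime ∧ r ∣ q ∧ r ≠ p := by
    by_contra hcon
    push Not at hcon
    exact hall ⟨_, Nat.eq_prime_pow_of_unique_prime_dvd (orderOf_pos y).ne'
      fun {d} hd hdd => hcon d hd hdd⟩
  set z : G := ((y ^ (q / r) : Subgroup.centralizer ({x} : Set G)) : G) with hz
  have hzo : orderOf z = r := by
    rw [hz, Subgroup.orderOf_coe, orderOf_pow_orderOf_div (orderOf_pos y).ne' hrd]
  have hzN : z ∉ supp χ := by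
    intro hzm
    have hz1 : z ≠ 1 := fun e => hr.ne_one (by rw [← hzo, e, orderOf_one])
    have e1 := orderOf_eq_of_mem_supp hG h hzm hz1
    have e2 := orderOf_eq_of_mem_supp hG h hx hx1
    rw [hzo] at e1
    rw [← e1] at e2
    rw [e2] at hox
    exact hrp ((Nat.prime_dvd_prime_iff_eq Fact.out hr).mp hox).symm
  have hcomm : Commute z x :=
    (Subgroup.mem_centralizer_singleton_iff.mp (y ^ (q / r)).2)
  have ho := isConj_orderOf (coset_conj hG h hzN hx)
  have hcop : (orderOf z).Coprime (orderOf x) := by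
    rw [hzo]
    refine hr.coprime_iff_not_dvd.mpr fun hd => ?_
    obtain ⟨j, hj⟩ := hpg ⟨x, hx⟩
    have : orderOf x ∣ p ^ j := orderOf_dvd_of_pow_eq_one (congrArg Subtype.val hj)
    exact hrp ((Nat.prime_dvd_prime_iff_eq hr Fact.out).mp (hr.dvd_of_dvd_pow (hd.trans this)))
  rw [hcomm.orderOf_mul_eq_mul_orderOf_of_coprime hcop, hzo] at ho
  have : orderOf x = 1 := Nat.eq_of_mul_eq_mul_left hr.pos (by rw [ho, mul_one])
  exact hx1 (orderOf_eq_one_iff.mp this)

theorem centralizer_sylow {χ : Cfsg.IrrCharacter G} {k : G} (hG : 2 < Nat.card G)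
    (h : TwoClass χ k) {p : ℕ} [Fact p.Prime] (hpg : IsPGroup p (supp χ)) {x : G}
    (hx : x ∈ supp χ) (hx1 : x ≠ 1) :
    ∃ P : Sylow p G, Subgroup.centralizer ({x} : Set G) = P := by
  have hcop : ¬ p ∣ Nat.card {g : G // IsConj k g} := by
    intro hd
    obtain ⟨n, hn⟩ := IsPGroup.iff_card.mp hpg
    rw [card_supp hG h] at hn
    have hn0 : n ≠ 0 := by
      rintro rfl
      have := two_le_card_class_add h
      rw [pow_zero] at hn; omega
    have : p ∣ 1 := (Nat.dvd_add_right hd).mp (hn ▸ dvd_pow_self p hn0)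
    exact (Fact.out (p := p.Prime)).not_dvd_one this
  have hsame : Nat.card {g : G // IsConj x g} = Nat.card {g : G // IsConj k g} := by
    have hxk := ((mem_supp_iff hG h x).mp hx).resolve_left hx1
    exact Nat.card_congr (Equiv.subtypeEquivRight fun g =>
      ⟨fun e => hxk.trans e, fun e => hxk.symm.trans e⟩)
  have hidx : ¬ p ∣ (Subgroup.centralizer ({x} : Set G)).index := by
    intro hd
    apply hcop
    have e := class_mul_centralizer x
    rw [← Subgroup.index_mul_card (Subgroup.centralizer ({x} : Set G)), hsame] at e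
    rwa [Nat.eq_of_mul_eq_mul_right Nat.card_pos e]
  exact ⟨(centralizer_pGroup hG h hpg hx hx1).toSylow hidx, rfl⟩

/-- The centraliser of an element outside the support and of its image have the same order. -/
theorem card_centralizer_quot {χ : Cfsg.IrrCharacter G} {k : G} (hG : 2 < Nat.card G)
    (h : TwoClass χ k) (N : Subgroup G) [N.Normal] (hN : N = supp χ) {x : G} (hx : x ∉ N) :
    Nat.card (Subgroup.centralizer ({x} : Set G)) =
      Nat.card (Subgroup.centralizer ({(x : G ⧸ N)} : Set (G ⧸ N))) := by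
  set H := (Subgroup.centralizer ({(x : G ⧸ N)} : Set (G ⧸ N))).comap (QuotientGroup.mk' N) with hH
  have hmemH : ∀ g : G, g ∈ H ↔ g * x * g⁻¹ * x⁻¹ ∈ N := by
    intro g
    rw [hH, Subgroup.mem_comap, Subgroup.mem_centralizer_singleton_iff, QuotientGroup.mk'_apply,
      ← QuotientGroup.mk_mul, ← QuotientGroup.mk_mul, eq_comm, QuotientGroup.eq]
    constructor
    · intro hm
      have := Subgroup.Normal.conj_mem ‹N.Normal› _ hm (x * g)
      simpa [mul_assoc] using this
    · intro hm
      have := Subgroup.Normal.conj_mem ‹N.Normal› _ hm (x * g)⁻¹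
      simpa [mul_assoc] using this
  have hcardH : Nat.card H =
      Nat.card N * Nat.card (Subgroup.centralizer ({(x : G ⧸ N)} : Set (G ⧸ N))) := by
    have e1 := Subgroup.index_comap_of_surjective
      (H := Subgroup.centralizer ({(x : G ⧸ N)} : Set (G ⧸ N))) (QuotientGroup.mk'_surjective N)
    rw [← hH] at e1
    have e2 := H.index_mul_card
    have e3 := (Subgroup.centralizer ({(x : G ⧸ N)} : Set (G ⧸ N))).index_mul_card
    have e4 : Nat.card (G ⧸ N) * Nat.card N = Nat.card G := N.index_mul_card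
    rw [e1] at e2
    refine Nat.eq_of_mul_eq_mul_left
      (Nat.pos_of_ne_zero (Subgroup.index_ne_zero_of_finite
        (H := Subgroup.centralizer ({(x : G ⧸ N)} : Set (G ⧸ N))))) ?_
    rw [e2, ← e4, ← e3]; ring
  -- the orbit of `x` under `H` is the whole coset
  let S := Subgroup.centralizer ({x} : Set G)
  have horb : H.index * (Nat.card N * Nat.card S) = Nat.card G := by
    letI act : MulAction H G := MulAction.compHom G ((ConjAct.toConjAct : G ≃* ConjAct G).toMonoidHom.comp H.subtype)
    have hsmul : ∀ (g : H) (y : G), g • y = (g : G) * y * (g : G)⁻¹ := fun g y => rfl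
    have horbit : MulAction.orbit H x = (fun n => x * n) '' (N : Set G) := by
      ext y
      constructor
      · rintro ⟨g, rfl⟩
        refine ⟨x⁻¹ * ((g : G) * x * (g : G)⁻¹), ?_, by simp [hsmul]⟩
        have := Subgroup.Normal.conj_mem ‹N.Normal› _ ((hmemH g).mp g.2) x⁻¹
        simpa [mul_assoc] using this
      · rintro ⟨n, hn, rfl⟩
        obtain ⟨g, hg⟩ := isConj_iff.mp (coset_conj hG h (hN ▸ hx) (hN ▸ hn : n ∈ supp χ)).symm
        refine ⟨⟨g, (hmemH g).mpr ?_⟩, by simp only [hsmul]; exact hg⟩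
        rw [hg]
        exact Subgroup.Normal.conj_mem ‹N.Normal› _ hn x
    have hstab : Nat.card (MulAction.stabilizer H x) = Nat.card S := by
      refine Nat.card_congr
        { toFun := fun g => ⟨(g.1 : G), ?_⟩, invFun := fun g => ⟨⟨g.1, (hmemH g.1).mpr ?_⟩, ?_⟩,
          left_inv := fun _ => rfl, right_inv := fun _ => rfl }
      · have := g.2
        rw [MulAction.mem_stabilizer_iff, hsmul, mul_inv_eq_iff_eq_mul] at this
        exact Subgroup.mem_centralizer_singleton_iff.mpr this
      · rw [Subgroup.mem_centralizer_singleton_iff.mp g.2, mul_assoc x, mul_inv_cancel, mul_one,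
          mul_inv_cancel]
        exact N.one_mem
      · rw [MulAction.mem_stabilizer_iff, hsmul, mul_inv_eq_iff_eq_mul]
        exact Subgroup.mem_centralizer_singleton_iff.mp g.2
    have hcount : Nat.card (MulAction.orbit H x) * Nat.card (MulAction.stabilizer H x) =
        Nat.card H := by
      classical
      have := Fintype.ofFinite G
      simp only [Nat.card_eq_fintype_card]
      exact MulAction.card_orbit_mul_card_stabilizer_eq_card_group H x
    rw [← hstab, ← H.index_mul_card, ← hcount]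
    congr 2
    rw [Nat.card_congr (Equiv.setCongr horbit),
      Nat.card_image_of_injective (mul_right_injective x)]
    rfl
  have := Nat.eq_of_mul_eq_mul_left (Nat.pos_of_ne_zero H.index_ne_zero_of_finite)
    (horb.trans H.index_mul_card.symm)
  rw [hcardH] at this
  exact Nat.eq_of_mul_eq_mul_left Nat.card_pos this


/-- The conjugate of an irreducible character of a normal subgroup. -/
def conjIrr (N : Subgroup G) [N.Normal] (μ : Cfsg.IrrCharacter N) (g : G) : Cfsg.IrrCharacter N :=
  ⟨fun n => (μ : N → ℂ) (MulAut.conjNormal g n), isIrr_comp_equiv μ (MulAut.conjNormal g)⟩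

theorem conj_transitive {χ : Cfsg.IrrCharacter G} {k : G} (hG : 2 < Nat.card G) (h : TwoClass χ k)
    (N : Subgroup G) [N.Normal] (hN : N = supp χ) (μ ν : Cfsg.IrrCharacter N)
    (hμ : (μ : N → ℂ) ≠ fun _ => 1) (hν : (ν : N → ℂ) ≠ fun _ => 1) :
    ∃ g : G, conjIrr N μ g = ν := by
  classical
  have := Fintype.ofFinite G
  have := Fintype.ofFinite N
  by_contra hcon
  push Not at hcon
  let one : Cfsg.IrrCharacter N := oneChar N
  let F : N → ℂ := fun n => ∑ g : G, (μ : N → ℂ) (MulAut.conjNormal g n)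
  have hF1 : F 1 = (Nat.card G : ℂ) * (μ : N → ℂ) 1 := by
    simp [F, Finset.card_univ, Nat.card_eq_fintype_card]
  have hFconj : ∀ (a : G) (n : N), F (MulAut.conjNormal a n) = F n := by
    intro a n
    refine Fintype.sum_equiv (Equiv.mulRight a) _ _ fun g => ?_
    show (μ : N → ℂ) _ = (μ : N → ℂ) (MulAut.conjNormal (g * a) n)
    rw [map_mul, MulAut.mul_apply]
  have hk : k ∈ N := hN ▸ (mem_supp_iff hG h k).mpr (Or.inr (IsConj.refl k))
  have hFconst : ∀ n : N, n ≠ 1 → F n = F ⟨k, hk⟩ := by
    intro n hn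
    have hn' : (n : G) ∈ supp χ := hN.le n.2
    obtain ⟨a, ha⟩ := isConj_iff.mp (supp_conj hG h (hN.le hk) hn' h.1 (fun e => hn (Subtype.ext e)))
    rw [← hFconj a ⟨k, hk⟩]
    congr 1
    exact Subtype.ext (by simp [ha])
  have hsum_mul_conj_irr : ∀ τ : Cfsg.IrrCharacter N, (∀ g, conjIrr N μ g ≠ τ) →
      ∑ n : N, F n * conj ((τ : N → ℂ) n) = 0 := by
    intro τ hτ
    simp only [F, Finset.sum_mul]
    rw [Finset.sum_comm]
    refine Finset.sum_eq_zero fun g _ => ?_
    have := sum_mul_conj_irr (conjIrr N μ g) τ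
    rwa [if_neg (hτ g)] at this
  have hone : ∀ g, conjIrr N μ g ≠ one := by
    intro g e
    apply hμ
    funext n
    have := congrFun (congrArg Subtype.val e) ((MulAut.conjNormal g).symm n)
    simpa [conjIrr, one, oneChar_apply] using this
  have hsplit : ∀ f : N → ℂ, ∑ n : N, F n * f n = F 1 * f 1 +
      F ⟨k, hk⟩ * ∑ n ∈ Finset.univ.erase (1 : N), f n := by
    intro f
    rw [← Finset.add_sum_erase _ _ (Finset.mem_univ (1 : N)), Finset.mul_sum]
    congr 1
    exact Finset.sum_congr rfl fun n hn => by rw [hFconst n (Finset.ne_of_mem_erase hn)]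
  have e1 := hsum_mul_conj_irr one hone
  have e2 := hsum_mul_conj_irr ν hcon
  rw [hsplit] at e1 e2
  -- sum of a nonprincipal character vanishes
  have e3 := sum_mul_conj_irr ν one
  rw [if_neg (fun e => hν (congrArg Subtype.val e)),
    ← Finset.add_sum_erase _ _ (Finset.mem_univ (1 : N))] at e3
  simp only [one, oneChar_apply, map_one, mul_one, Finset.sum_const, nsmul_eq_mul] at e1 e3
  have e3' : ∑ n ∈ Finset.univ.erase (1 : N), conj ((ν : N → ℂ) n) = -conj ((ν : N → ℂ) 1) := by
    rw [← map_sum, ← map_neg]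
    congr 1
    linear_combination e3
  rw [e3'] at e2
  have hν1 : conj ((ν : N → ℂ) 1) ≠ 0 := (map_ne_zero _).mpr (apply_one_ne_zero ν)
  have e4 : F 1 - F ⟨k, hk⟩ = 0 :=
    (mul_eq_zero.mp (by linear_combination e2 :
      conj ((ν : N → ℂ) 1) * (F 1 - F ⟨k, hk⟩) = 0)).resolve_left hν1
  have e5 : F 1 * (((Finset.univ.erase (1 : N)).card + 1 : ℕ) : ℂ) = 0 := by
    push_cast
    linear_combination e1 + ((Finset.univ.erase (1 : N)).card : ℂ) * e4
  rcases mul_eq_zero.mp e5 with h1 | h1
  · rw [hF1] at h1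
    exact mul_ne_zero (Nat.cast_ne_zero.mpr Nat.card_pos.ne') (apply_one_ne_zero μ) h1
  · exact Nat.cast_ne_zero.mpr (Nat.succ_ne_zero _) h1

theorem card_irr_of_comm {N : Type*} [Group N] [Finite N] (hc : ∀ a b : N, a * b = b * a) :
    Nat.card (Cfsg.IrrCharacter N) = Nat.card N := by
  classical
  have h := second_orthogonality (1 : N) (1 : N)
  rw [if_pos (IsConj.refl _),
    Finset.sum_congr rfl (fun χ _ => by rw [degree_eq_one_of_comm χ hc, map_one, mul_one]),
    Finset.sum_const, nsmul_eq_mul, mul_one] at h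
  rw [show Subgroup.centralizer ({(1 : N)} : Set N) = ⊤ by
    ext x; simp [Subgroup.mem_centralizer_singleton_iff], Subgroup.card_top] at h
  rw [Nat.card_eq_fintype_card (α := Cfsg.IrrCharacter N), ← Finset.card_univ]
  exact_mod_cast h

theorem inertia_sylow {χ : Cfsg.IrrCharacter G} {k : G} (hG : 2 < Nat.card G) (h : TwoClass χ k)
    (N : Subgroup G) [N.Normal] (hN : N = supp χ) {p : ℕ} [Fact p.Prime] (hpg : IsPGroup p N)
    (μ : Cfsg.IrrCharacter N) (hμ : (μ : N → ℂ) ≠ fun _ => 1) :
    ∃ P : Sylow p G, ∀ g : G, g ∈ (P : Subgroup G) ↔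
      ∀ n n' : N, (n' : G) = g * n * g⁻¹ → (μ : N → ℂ) n' = (μ : N → ℂ) n := by
  classical
  letI act : MulAction G (Cfsg.IrrCharacter N) :=
    { smul := fun g τ => conjIrr N τ g⁻¹
      one_smul := fun τ => Subtype.ext (funext fun n => by
        show (τ : N → ℂ) (MulAut.conjNormal (1 : G)⁻¹ n) = _
        simp)
      mul_smul := fun a b τ => Subtype.ext (funext fun n => by
        show (τ : N → ℂ) (MulAut.conjNormal (a * b)⁻¹ n) =
          (τ : N → ℂ) (MulAut.conjNormal b⁻¹ (MulAut.conjNormal a⁻¹ n))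
        rw [mul_inv_rev, map_mul, MulAut.mul_apply]) }
  have hsmul : ∀ (g : G) (τ : Cfsg.IrrCharacter N), g • τ = conjIrr N τ g⁻¹ := fun _ _ => rfl
  let one : Cfsg.IrrCharacter N := oneChar N
  have horb : MulAction.orbit G μ = {one}ᶜ := by
    ext τ
    simp only [Set.mem_compl_iff, Set.mem_singleton_iff]
    constructor
    · rintro ⟨g, rfl⟩ e
      apply hμ
      funext n
      have := congrFun (congrArg Subtype.val e) ((MulAut.conjNormal g⁻¹).symm n)
      simpa [hsmul, conjIrr, one, oneChar_apply] using this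
    · intro hτ
      obtain ⟨g, hg⟩ := conj_transitive hG h N hN μ τ hμ (fun e => hτ (Subtype.ext e))
      exact ⟨g⁻¹, by rw [← hg]; simp [hsmul]⟩
  have hNc : ∀ a b : N, a * b = b * a := fun a b =>
    Subtype.ext (supp_comm hG h a (hN.le a.2) b (hN.le b.2))
  set T := MulAction.stabilizer G μ with hT
  have hidx : T.index = Nat.card {g : G // IsConj k g} := by
    rw [hT, MulAction.index_stabilizer, horb]
    have := Set.ncard_add_ncard_compl ({one} : Set (Cfsg.IrrCharacter N))
    rw [Set.ncard_singleton, card_irr_of_comm hNc] at this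
    have hc : Nat.card N = Nat.card {g : G // IsConj k g} + 1 :=
      (congrArg (fun H : Subgroup G => Nat.card H) hN).trans (card_supp hG h)
    omega
  obtain ⟨P, hP⟩ := centralizer_sylow hG h (hN ▸ hpg)
    ((mem_supp_iff hG h k).mpr (Or.inr (IsConj.refl k))) h.1
  have hcardT : Nat.card T = Nat.card (P : Subgroup G) := by
    have e1 := T.index_mul_card
    rw [hidx, ← class_mul_centralizer k, hP] at e1
    exact Nat.eq_of_mul_eq_mul_left (twoClass_unique_card h) e1
  have hTp : IsPGroup p T := by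
    obtain ⟨n, hn⟩ := IsPGroup.iff_card.mp P.isPGroup'
    exact IsPGroup.iff_card.mpr ⟨n, hcardT.trans hn⟩
  refine ⟨hTp.toSylow (?_ : ¬ p ∣ T.index), fun g => ?_⟩
  · rw [hidx]
    intro hd
    have e := P.not_dvd_index
    apply e
    have e1 := (P : Subgroup G).index_mul_card
    have e2 := class_mul_centralizer k
    rw [← e1, hP] at e2
    rwa [← Nat.eq_of_mul_eq_mul_right Nat.card_pos e2]
  · show g ∈ T ↔ _
    rw [hT, MulAction.mem_stabilizer_iff, hsmul]
    constructor
    · intro e n n' hn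
      have h1 := congrFun (congrArg Subtype.val e) n'
      have h2 : MulAut.conjNormal g⁻¹ n' = n := Subtype.ext (by simp [hn, mul_assoc])
      simp only [conjIrr] at h1
      rw [h2] at h1
      exact h1.symm
    · intro e
      refine Subtype.ext (funext fun n => ?_)
      exact (e (MulAut.conjNormal g⁻¹ n) n (by simp [mul_assoc])).symm

/-- Elements of a Sylow subgroup whose commutators with it lie in a small subgroup lie in `N`. -/
theorem mem_of_commutator_small {χ : Cfsg.IrrCharacter G} {k : G} (hG : 2 < Nat.card G)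
    (h : TwoClass χ k) (N : Subgroup G) [N.Normal] (hN : N = supp χ) {p : ℕ} [Fact p.Prime]
    (P : Sylow p G) (hNP : N ≤ (P : Subgroup G)) (Z : Subgroup (P : Subgroup G))
    (hZ : Nat.card Z < Nat.card N) (z : (P : Subgroup G))
    (hz : ∀ y : (P : Subgroup G), z * y * z⁻¹ * y⁻¹ ∈ Z) : (z : G) ∈ N := by
  classical
  by_contra hzN
  set C := Subgroup.centralizer ({z} : Set (P : Subgroup G)) with hC
  -- the class of `z` in `P` lies in a translate of `Z`
  have hidx : C.index ≤ Nat.card Z := by
    have e1 := class_mul_centralizer z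
    rw [← hC, ← C.index_mul_card] at e1
    rw [← Nat.eq_of_mul_eq_mul_right Nat.card_pos e1]
    refine Nat.card_le_card_of_injective (fun y => ⟨z * y.1⁻¹, ?_⟩) ?_
    · obtain ⟨a, ha⟩ := isConj_iff.mp y.2
      rw [← ha, show z * (a * z * a⁻¹)⁻¹ = z * a * z⁻¹ * a⁻¹ by simp [mul_assoc]]
      exact hz a
    · intro a b hab
      exact Subtype.ext (by simpa using congrArg Subtype.val hab)
  have hdiv : Nat.card C ∣ Nat.card (G ⧸ N) := by
    refine (dvd_trans (Subgroup.card_dvd_of_le (H := C.map (P : Subgroup G).subtype)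
      (K := Subgroup.centralizer ({(z : G)} : Set G)) ?_) ?_ : _)
      |> (fun d => by rwa [Subgroup.card_map_of_injective (Subgroup.subtype_injective _)] at d)
    · rintro _ ⟨x, hx, rfl⟩
      exact Subgroup.mem_centralizer_singleton_iff.mpr
        (congrArg Subtype.val (Subgroup.mem_centralizer_singleton_iff.mp hx))
    · rw [card_centralizer_quot hG h N hN hzN]
      exact Subgroup.card_subgroup_dvd_card _
  obtain ⟨a, ha⟩ := IsPGroup.iff_card.mp (P.isPGroup'.to_subgroup C)
  have hprod : Nat.card C * Nat.card N ∣ Nat.card G := by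
    rw [← N.index_mul_card]
    exact mul_dvd_mul_right hdiv _
  obtain ⟨b, hb⟩ := IsPGroup.iff_card.mp (P.isPGroup'.to_le hNP)
  rw [ha, hb, ← pow_add] at hprod
  have hPcard := P.card_eq_multiplicity
  have hle : a + b ≤ (Nat.card G).factorization p :=
    (Fact.out : p.Prime).pow_dvd_iff_le_factorization Nat.card_pos.ne' |>.mp hprod
  have hC' := C.index_mul_card
  have : p ^ b ≤ C.index := by
    rw [show Nat.card (P : Subgroup G) = p ^ (Nat.card G).factorization p from hPcard, ha] at hC'
    have h2 : p ^ b * p ^ a ≤ C.index * p ^ a := by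
      rw [hC', ← pow_add, add_comm b a]
      exact Nat.pow_le_pow_right (Fact.out : p.Prime).pos hle
    exact Nat.le_of_mul_le_mul_right h2 (pow_pos (Fact.out : p.Prime).pos _)
  omega

theorem pGroup_le_sylow (N : Subgroup G) [N.Normal] {p : ℕ} [Fact p.Prime] (hpg : IsPGroup p N)
    (P : Sylow p G) : N ≤ (P : Subgroup G) := by
  obtain ⟨Q, hQ⟩ := hpg.exists_le_sylow
  obtain ⟨g, rfl⟩ := MulAction.exists_smul_eq G Q P
  intro n hn
  have : g⁻¹ * n * g ∈ (Q : Subgroup G) := hQ (by
    simpa using Subgroup.Normal.conj_mem ‹N.Normal› n hn g⁻¹)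
  rw [Sylow.coe_subgroup_smul]
  exact ⟨g⁻¹ * n * g, this, by simp [mul_assoc]⟩

theorem center_and_series {χ : Cfsg.IrrCharacter G} {k : G} (hG : 2 < Nat.card G)
    (h : TwoClass χ k) (N : Subgroup G) [N.Normal] (hN : N = supp χ) {p : ℕ} [Fact p.Prime]
    (hpg : IsPGroup p N) (P : Sylow p G) :
    ((Subgroup.center (P : Subgroup G)).map (P : Subgroup G).subtype ≤ N ∧
      ((Subgroup.center (P : Subgroup G)).map (P : Subgroup G).subtype = N ↔
        (P : Subgroup G).Normal)) ∧
      (∃ i : ℕ, Subgroup.upperCentralSeries (P : Subgroup G) i = N.subgroupOf (P : Subgroup G)) := by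
  have hNP := pGroup_le_sylow N hpg P
  have hNbot : N ≠ ⊥ := hN ▸ supp_ne_bot hG h
  have hN2 : 1 < Nat.card N := by
    rw [hN, card_supp hG h]
    have := two_le_card_class_add h
    omega
  have hle : (Subgroup.center (P : Subgroup G)).map (P : Subgroup G).subtype ≤ N := by
    rintro _ ⟨z, hz, rfl⟩
    refine mem_of_commutator_small hG h N hN P hNP ⊥ (by rw [Subgroup.card_bot]; exact hN2) z
      fun y => ?_
    rw [Subgroup.mem_bot, ← Subgroup.mem_center_iff.mp hz y]
    group
  refine ⟨⟨hle, ⟨fun heq => ?_, fun hnorm => le_antisymm hle ?_⟩⟩, ?_⟩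
  · -- `P` is the centraliser of `N`
    have key : (P : Subgroup G) = Subgroup.centralizer (N : Set G) := by
      apply le_antisymm
      · intro y hy
        rw [Subgroup.mem_centralizer_iff]
        intro n hn
        obtain ⟨z, hz, rfl⟩ := Subgroup.mem_map.mp (heq.symm.le hn)
        exact (congrArg Subtype.val (Subgroup.mem_center_iff.mp hz ⟨y, hy⟩)).symm
      · have hk : k ∈ N := hN ▸ (mem_supp_iff hG h k).mpr (Or.inr (IsConj.refl k))
        obtain ⟨Q, hQ⟩ := centralizer_sylow hG h (hN ▸ hpg) (hN.le hk) h.1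
        have hPQ : (P : Subgroup G) ≤ Q := by
          intro y hy
          rw [← hQ, Subgroup.mem_centralizer_singleton_iff]
          obtain ⟨z, hz, e⟩ := Subgroup.mem_map.mp (heq.symm.le hk)
          rw [← e]
          exact congrArg Subtype.val (Subgroup.mem_center_iff.mp hz ⟨y, hy⟩)
        have e : (P : Subgroup G) = Q := Subgroup.eq_of_le_of_card_ge hPQ
          (by rw [Q.card_eq_multiplicity, P.card_eq_multiplicity])
        rw [← e] at hQ
        intro y hy
        rw [← hQ, Subgroup.mem_centralizer_singleton_iff]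
        exact (Subgroup.mem_centralizer_iff.mp hy k hk).symm
    rw [key]
    exact Subgroup.normal_centralizer
  · rw [hN]
    haveI : Nontrivial (P : Subgroup G) :=
      (Subgroup.nontrivial_iff_ne_bot _).mpr (fun e => hNbot (le_bot_iff.mp (e ▸ hNP)))
    refine supp_le hG h _ (ConjAct.normal_of_characteristic_of_normal) ?_
    rw [Ne, Subgroup.map_eq_bot_iff_of_injective _ (Subgroup.subtype_injective _)]
    exact (Subgroup.nontrivial_iff_ne_bot _).mp P.isPGroup'.center_nontrivial
  · by_contra hno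
    push Not at hno
    have hall : ∀ i, Subgroup.upperCentralSeries (P : Subgroup G) i ≤ N.subgroupOf P := by
      intro i
      induction i with
      | zero => simp
      | succ i ih =>
        intro z hz
        rw [Subgroup.mem_subgroupOf]
        refine mem_of_commutator_small hG h N hN P hNP (Subgroup.upperCentralSeries _ i) ?_ z
          (fun y => Subgroup.mem_upperCentralSeries_succ_iff.mp hz y)
        refine lt_of_le_of_ne ((Subgroup.card_le_of_le ih).trans
          (Nat.card_congr (Subgroup.subgroupOfEquivOfLe hNP).toEquiv).le) fun e => ?_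
        exact hno i (Subgroup.eq_of_le_of_card_ge ih
          (by rw [e, Nat.card_congr (Subgroup.subgroupOfEquivOfLe hNP).toEquiv]))
    haveI : Group.IsNilpotent (P : Subgroup G) := P.isPGroup'.isNilpotent
    obtain ⟨n, hn⟩ := Group.IsNilpotent.nilpotent' (G := (P : Subgroup G))
    exact hno n (le_antisymm (hall n) (hn.symm ▸ le_top))


end Cfsg.Agent.Lib.BlocksChars5.Gagola
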