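import Cfsg.Agent.Lib.BlocksChars5.Basic
import Cfsg.Agent.Lib.BC78.PowChar
import Cfsg.Agent.Lib.Clifford.Rep
import Cfsg.Prelude.Def_Solvable
import Mathlib.GroupTheory.Nilpotent

/-!
# Products of an irreducible character with a Galois conjugate
-/

namespace Cfsg.Agent.Lib.BlocksChars5.GaloisProduct

open scoped ComplexConjugate TensorProduct
open Cfsg.Agent.Lib.Characters.Basic Cfsg.Agent.Lib.BlocksChars5.Basic

variable {G : Type*} [Group G] [Finite G]

/-- If `χ(g) χ(g ^ k)` is irreducible then sums over normal subgroups behave like a scalar. -/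
theorem exists_scalar (χ : Cfsg.IrrCharacter G) {k : ℕ} (hk : Nat.Coprime k (Nat.card G))
    (hirr : Cfsg.IsIrrCharacter G (fun g => (χ : G → ℂ) g * (χ : G → ℂ) (g ^ k)))
    (E : Subgroup G) [E.Normal] [Fintype E] :
    ∃ ω : ℂ, ∀ a b : G,
      ∑ x : E, (χ : G → ℂ) ((x : G) ^ k * a) * (χ : G → ℂ) (((x : G)⁻¹ * b) ^ k) =
        ω * ((χ : G → ℂ) a * (χ : G → ℂ) (b ^ k)) := by
  classical
  have := Fintype.ofFinite G
  obtain ⟨n, ρ, hρ, hχ⟩ := exists_rep χ
  obtain ⟨m, σ, hσ, hχk⟩ :=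
    exists_rep (⟨_, Cfsg.Agent.Lib.BC78.PowChar.isIrrCharacter_pow χ.2 hk⟩ : Cfsg.IrrCharacter G)
  have hR : (Representation.tprod ρ σ).IsIrreducible := by
    rw [isIrreducible_iff_classInner_self, Representation.char_tensor, hχ, hχk]
    exact classInner_self_irr ⟨_, hirr⟩
  haveI := hR
  let T : Module.End ℂ ((Fin n → ℂ) ⊗[ℂ] (Fin m → ℂ)) :=
    ∑ x : E, TensorProduct.map (ρ ((x : G) ^ k)) (σ (x : G)⁻¹)
  have hT : ∀ g, T * Representation.tprod ρ σ g = Representation.tprod ρ σ g * T := by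
    intro g
    simp only [T, Finset.sum_mul, Finset.mul_sum, Representation.tprod_apply,
      ← TensorProduct.map_mul, ← map_mul]
    refine Fintype.sum_equiv (MulAut.conjNormal g⁻¹).toEquiv _ _ fun x => ?_
    have e : (((MulAut.conjNormal g⁻¹).toEquiv x : E) : G) = g⁻¹ * x * g⁻¹⁻¹ :=
      MulAut.conjNormal_apply g⁻¹ x
    rw [e, conj_pow, inv_inv]
    congr 2 <;> group
  obtain ⟨ω, hω⟩ := Cfsg.Agent.Lib.Clifford.Rep.schur _ T hT
  refine ⟨ω, fun a b => ?_⟩
  have h := congrArg (fun S : Module.End ℂ ((Fin n → ℂ) ⊗[ℂ] (Fin m → ℂ)) =>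
    LinearMap.trace ℂ _ (S * TensorProduct.map (ρ a) (σ b))) hω
  simp only [T, Finset.sum_mul, ← TensorProduct.map_mul, ← map_mul, map_sum,
    LinearMap.trace_tensorProduct', smul_mul_assoc, one_mul, map_smul, smul_eq_mul] at h
  change ∑ x : E, ρ.character ((x : G) ^ k * a) * σ.character ((x : G)⁻¹ * b) =
    ω * (ρ.character a * σ.character b) at h
  rw [hχ, hχk] at h
  exact h

theorem norm_apply_eq_of_abelian (χ : Cfsg.IrrCharacter G) {k : ℕ}
    (hk : Nat.Coprime k (Nat.card G))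
    (hirr : Cfsg.IsIrrCharacter G (fun g => (χ : G → ℂ) g * (χ : G → ℂ) (g ^ k)))
    (A : Subgroup G) [A.Normal] (hA : ∀ a ∈ A, ∀ b ∈ A, a * b = b * a) {y : G} (hy : y ∈ A) :
    ‖(χ : G → ℂ) (y ^ k)‖ = ‖(χ : G → ℂ) 1‖ := by
  classical
  have := Fintype.ofFinite G
  have := Fintype.ofFinite A
  obtain ⟨ω, hω⟩ := exists_scalar χ hk hirr A
  set S : ℂ := ∑ x : A, (χ : G → ℂ) ((x : G) ^ k) * (χ : G → ℂ) (((x : G)⁻¹) ^ k) with hS
  have h1 := hω 1 1
  simp only [mul_one, one_pow] at h1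
  have h2 := hω (y ^ k) y⁻¹
  have e : ∑ x : A, (χ : G → ℂ) ((x : G) ^ k * y ^ k) * (χ : G → ℂ) (((x : G)⁻¹ * y⁻¹) ^ k) = S := by
    refine Fintype.sum_equiv (Equiv.mulRight (⟨y, hy⟩ : A)) _ _ fun x => ?_
    have hc : Commute (x : G) y := hA _ x.2 _ hy
    simp only [Equiv.coe_mulRight, Subgroup.coe_mul]
    rw [hc.mul_pow, mul_inv_rev, (hc.inv_inv.eq : (x : G)⁻¹ * y⁻¹ = y⁻¹ * (x : G)⁻¹)]
  rw [e] at h2
  have hSpos : 0 < S.re := by
    rw [hS, Complex.re_sum]
    refine Finset.sum_pos' (fun x _ => ?_) ⟨1, Finset.mem_univ _, ?_⟩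
    · rw [inv_pow, apply_inv (isCharacter_irr χ), Complex.mul_conj, Complex.ofReal_re]
      exact Complex.normSq_nonneg _
    · rw [OneMemClass.coe_one, inv_one, one_pow, apply_one, ← Nat.cast_mul, Complex.natCast_re]
      exact_mod_cast Nat.mul_pos (degree_pos χ) (degree_pos χ)
  have hS0 : S ≠ 0 := fun h => by rw [h] at hSpos; simp at hSpos
  have hω0 : ω ≠ 0 := fun h => hS0 (by rw [hS, h1, h, zero_mul])
  rw [← hS, h2] at h1
  have h3 := mul_left_cancel₀ hω0 h1
  rw [inv_pow, apply_inv (isCharacter_irr χ)] at h3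
  have h4 := congrArg (fun z : ℂ => ‖z‖) h3
  simp only [norm_mul, RCLike.norm_conj] at h4
  nlinarith [norm_nonneg ((χ : G → ℂ) (y ^ k)), norm_nonneg ((χ : G → ℂ) 1)]

variable (χ : Cfsg.IrrCharacter G)

theorem mem_center_of_norm (hfaith : ∀ g : G, (χ : G → ℂ) g = (χ : G → ℂ) 1 → g = 1) {g : G}
    (hg : ‖(χ : G → ℂ) g‖ = ‖(χ : G → ℂ) 1‖) : g ∈ Subgroup.center G := by
  obtain ⟨n, ρ, -, hχ⟩ := exists_rep χ
  rw [← hχ, Representation.char_one, Complex.norm_natCast] at hg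
  obtain ⟨c, hc⟩ := (Cfsg.Agent.Lib.Characters.Diag.norm_char_eq_finrank_iff ρ g).mp hg
  rw [Subgroup.mem_center_iff]
  intro h
  have h1 : ρ (g⁻¹ * h⁻¹ * g * h) = 1 := by
    have hcomm : ρ g * ρ h = ρ h * ρ g := by
      rw [hc]
      show (c • (1 : Module.End ℂ _)) * ρ h = ρ h * (c • (1 : Module.End ℂ _))
      rw [smul_mul_assoc, mul_smul_comm, one_mul, mul_one]
    rw [show g⁻¹ * h⁻¹ * g * h = g⁻¹ * h⁻¹ * (g * h) by group, map_mul, map_mul ρ g h, hcomm,
      ← map_mul ρ h g, ← map_mul]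
    simp [mul_assoc]
  have h2 : g⁻¹ * h⁻¹ * g * h = 1 := hfaith _ (by
    rw [← hχ]; simp only [Representation.character, h1, map_one])
  have h3 := congrArg (fun z => h * (g * z)) h2
  simpa [mul_assoc] using h3.symm

theorem apply_eq_zero_of_commutator (hfaith : ∀ g : G, (χ : G → ℂ) g = (χ : G → ℂ) 1 → g = 1)
    {w v : G} (hc : v * w * v⁻¹ * w⁻¹ ∈ Subgroup.center G) (hne : v * w ≠ w * v) :
    (χ : G → ℂ) w = 0 := by
  obtain ⟨n, ρ, hρ, hχ⟩ := exists_rep χ
  haveI := hρ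
  set c := v * w * v⁻¹ * w⁻¹ with hcdef
  obtain ⟨l, hl⟩ := Cfsg.Agent.Lib.Clifford.Rep.schur ρ (ρ c) fun g => by
    rw [← map_mul, ← map_mul, Subgroup.mem_center_iff.mp hc g]
  have hl1 : l ≠ 1 := fun e => hne (by
    have h2 : c = 1 := hfaith c (by
      rw [← hχ]; simp only [Representation.character, hl, e, one_smul, map_one])
    rw [hcdef, mul_inv_eq_one, mul_inv_eq_iff_eq_mul] at h2
    exact h2)
  have h1 : (χ : G → ℂ) w = l * (χ : G → ℂ) w := by
    conv_lhs => rw [← conj_invariant χ w v, show v * w * v⁻¹ = c * w by simp [hcdef, mul_assoc]]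
    rw [← hχ]
    simp only [Representation.character, map_mul, hl, smul_mul_assoc, one_mul, map_smul,
      smul_eq_mul]
  by_contra h0
  exact hl1 (mul_right_cancel₀ h0 (h1.symm.trans (one_mul _).symm))

theorem mem_center_of_pow {k : ℕ} (hk : Nat.Coprime k (Nat.card G)) {y : G}
    (h : y ^ k ∈ Subgroup.center G) : y ∈ Subgroup.center G :=
  Cfsg.Agent.Lib.BC78.PowChar.mem_of_pow_mem hk h

theorem le_center_of_abelian (hfaith : ∀ g : G, (χ : G → ℂ) g = (χ : G → ℂ) 1 → g = 1) {k : ℕ}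
    (hk : Nat.Coprime k (Nat.card G))
    (hirr : Cfsg.IsIrrCharacter G (fun g => (χ : G → ℂ) g * (χ : G → ℂ) (g ^ k)))
    (A : Subgroup G) [A.Normal] (hA : ∀ a ∈ A, ∀ b ∈ A, a * b = b * a) :
    A ≤ Subgroup.center G := fun _ hy =>
  mem_center_of_pow hk (mem_center_of_norm χ hfaith (norm_apply_eq_of_abelian χ hk hirr A hA hy))

theorem le_center_of_class_two (hfaith : ∀ g : G, (χ : G → ℂ) g = (χ : G → ℂ) 1 → g = 1) {k : ℕ}
    (hk : Nat.Coprime k (Nat.card G))
    (hirr : Cfsg.IsIrrCharacter G (fun g => (χ : G → ℂ) g * (χ : G → ℂ) (g ^ k)))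
    (E : Subgroup G) [E.Normal]
    (hE : ∀ a ∈ E, ∀ b ∈ E, a * b * a⁻¹ * b⁻¹ ∈ Subgroup.center G) :
    E ≤ Subgroup.center G := by
  classical
  have := Fintype.ofFinite G
  have := Fintype.ofFinite E
  haveI hAn : ((Subgroup.center E).map E.subtype).Normal := ConjAct.normal_of_characteristic_of_normal
  have hZ : (Subgroup.center E).map E.subtype ≤ Subgroup.center G := by
    refine le_center_of_abelian χ hfaith hk hirr _ ?_
    rintro _ ⟨a, ha, rfl⟩ _ ⟨b, -, rfl⟩
    exact (congrArg Subtype.val (Subgroup.mem_center_iff.mp ha b)).symm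
  have hvan : ∀ w ∈ E, w ∉ Subgroup.center G → (χ : G → ℂ) w = 0 := by
    intro w hw hwc
    obtain ⟨v, hv⟩ : ∃ v : E, v * ⟨w, hw⟩ ≠ ⟨w, hw⟩ * v := by
      by_contra hcon
      push Not at hcon
      exact hwc (hZ ⟨⟨w, hw⟩, Subgroup.mem_center_iff.mpr hcon, rfl⟩)
    exact apply_eq_zero_of_commutator χ hfaith (hE _ v.2 _ hw) fun e => hv (Subtype.ext e)
  intro y hy
  by_contra hyc
  obtain ⟨ω, hω⟩ := exists_scalar χ hk hirr E
  have h := hω (y ^ k) y⁻¹
  rw [hvan _ (E.pow_mem hy k) (fun h' => hyc (mem_center_of_pow hk h')), zero_mul, mul_zero] at h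
  -- only the terms with `x * y` central survive
  have hterm : ∀ x : E, (χ : G → ℂ) ((x : G) ^ k * y ^ k) *
      (χ : G → ℂ) (((x : G)⁻¹ * y⁻¹) ^ k) =
      if (x : G) * y ∈ Subgroup.center G then
        (χ : G → ℂ) (((x : G) * y) ^ k) * conj ((χ : G → ℂ) (((x : G) * y) ^ k)) else 0 := by
    intro x
    split_ifs with hxy
    · have hc : Commute (x : G) y := by
        have h1 := Subgroup.mem_center_iff.mp hxy (x : G)
        rw [← mul_assoc, mul_assoc (x : G) y] at h1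
        rw [mul_assoc] at h1
        exact mul_left_cancel h1
      rw [hc.mul_pow, show ((x : G)⁻¹ * y⁻¹) = ((x : G) * y)⁻¹ by rw [hc.eq, mul_inv_rev],
        inv_pow, apply_inv (isCharacter_irr χ), hc.mul_pow]
    · have hxy' : ((x : G)⁻¹ * y⁻¹) ∉ Subgroup.center G := fun h' => hxy (by
        have h1 := Subgroup.inv_mem _ h'
        rw [mul_inv_rev, inv_inv, inv_inv] at h1
        have h2 : (x : G) * y = y * x := by
          have h3 := (Subgroup.mem_center_iff.mp h1 y).symm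
          rw [mul_assoc] at h3
          exact mul_left_cancel h3
        rwa [h2])
      rw [hvan _ (E.pow_mem (E.mul_mem (E.inv_mem x.2) (E.inv_mem hy)) k)
        (fun h' => hxy' (mem_center_of_pow hk h')), mul_zero]
  rw [Finset.sum_congr rfl (fun x _ => hterm x)] at h
  have hre := congrArg Complex.re h
  rw [Complex.re_sum, Complex.zero_re] at hre
  refine (Finset.sum_pos' (fun x _ => ?_) ⟨⟨y⁻¹, E.inv_mem hy⟩, Finset.mem_univ _, ?_⟩).ne' hre
  · split_ifs
    · rw [Complex.mul_conj, Complex.ofReal_re]; exact Complex.normSq_nonneg _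
    · simp
  · simp only [inv_mul_cancel, Subgroup.one_mem, if_true, one_pow, apply_one, map_natCast]
    rw [← Nat.cast_mul, Complex.natCast_re]
    exact_mod_cast Nat.mul_pos (degree_pos χ) (degree_pos χ)

theorem fitting_eq_center (hfaith : ∀ g : G, (χ : G → ℂ) g = (χ : G → ℂ) 1 → g = 1) {k : ℕ}
    (hk : Nat.Coprime k (Nat.card G))
    (hirr : Cfsg.IsIrrCharacter G (fun g => (χ : G → ℂ) g * (χ : G → ℂ) (g ^ k))) :
    Cfsg.fittingSubgroup G = Subgroup.center G := by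
  refine le_antisymm (sSup_le ?_) (le_sSup ⟨inferInstance, ?_⟩)
  · rintro N ⟨hN, hnil⟩
    haveI := hN
    haveI := hnil
    have hab : ∀ i : ℕ, (Subgroup.upperCentralSeries N i).map N.subtype ≤ Subgroup.center G := by
      intro i
      induction i with
      | zero => simp
      | succ i ih =>
        haveI : ((Subgroup.upperCentralSeries N (i + 1)).map N.subtype).Normal :=
          ConjAct.normal_of_characteristic_of_normal
        refine le_center_of_class_two χ hfaith hk hirr _ ?_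
        rintro _ ⟨a, ha, rfl⟩ _ ⟨b, -, rfl⟩
        exact ih ⟨a * b * a⁻¹ * b⁻¹, Subgroup.mem_upperCentralSeries_succ_iff.mp ha b, by simp⟩
    obtain ⟨n, hn⟩ := Group.IsNilpotent.nilpotent' (G := N)
    intro x hx
    exact hab n ⟨⟨x, hx⟩, hn.symm ▸ Subgroup.mem_top _, rfl⟩
  · letI : CommGroup (Subgroup.center G) := IsMulCommutative.instCommGroup
    exact CommGroup.isNilpotent

end Cfsg.Agent.Lib.BlocksChars5.GaloisProduct
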