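import Cfsg.Agent.Lib.BlocksChars5.Basic

/-!
# Characters induced from a Sylow subgroup
-/

namespace Cfsg.Agent.Lib.BlocksChars5.IndSylow

open scoped ComplexConjugate
open Cfsg.Agent.Lib.Characters.Basic Cfsg.Agent.Lib.BlocksChars5.Basic

attribute [local instance] irrFintype

open Cfsg.Agent.Lib.Induced.Basic

variable {G : Type*} [Group G] [Fintype G]

/-- The sum of a multiset of irreducible characters. -/
noncomputable def msum (m : Multiset (Cfsg.IrrCharacter G)) : G → ℂ :=
  (m.map fun ψ : Cfsg.IrrCharacter G => (ψ : G → ℂ)).sum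

theorem classInner_msum (m : Multiset (Cfsg.IrrCharacter G)) (ψ : Cfsg.IrrCharacter G)
    [DecidableEq (Cfsg.IrrCharacter G)] :
    Cfsg.classInner (msum m) (ψ : G → ℂ) = (m.count ψ : ℕ) := by
  induction m using Multiset.induction with
  | empty => simp [msum, classInner_zero_left]
  | cons a m ih =>
    rw [msum, Multiset.map_cons, Multiset.sum_cons, classInner_add_left]
    change _ + Cfsg.classInner (msum m) _ = _
    rw [ih, classInner_irr, Multiset.count_cons]
    by_cases h : a = ψ
    · subst h; simp [add_comm]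
    · simp [h, Ne.symm h]

theorem eq_singleton_of_msum {m : Multiset (Cfsg.IrrCharacter G)} {χ : Cfsg.IrrCharacter G}
    (h : msum m = χ) : m = {χ} := by
  classical
  ext ψ
  have := classInner_msum m ψ
  rw [h, classInner_irr] at this
  by_cases hh : χ = ψ
  · subst hh; simp at this ⊢; exact_mod_cast this.symm
  · rw [if_neg hh] at this
    have h2 : m.count ψ = 0 := by exact_mod_cast this.symm
    rw [h2, Multiset.count_singleton, if_neg (Ne.symm hh)]

theorem msum_one (m : Multiset (Cfsg.IrrCharacter G)) :
    msum m 1 = ((m.map fun ψ : Cfsg.IrrCharacter G => Cfsg.charDegree (ψ : G → ℂ)).sum : ℕ) := by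
  induction m using Multiset.induction with
  | empty => simp [msum]
  | cons a m ih =>
    rw [msum, Multiset.map_cons, Multiset.sum_cons, Pi.add_apply]
    change _ + msum m 1 = _
    rw [ih, Multiset.map_cons, Multiset.sum_cons, Nat.cast_add,
      charDegree_cast (isCharacter_irr a)]

theorem indFun_msum {H : Subgroup G} [Fintype H] (m : Multiset (Cfsg.IrrCharacter H)) :
    Cfsg.indFun H (msum m) =
      (m.map fun ψ : Cfsg.IrrCharacter H => Cfsg.indFun H (ψ : H → ℂ)).sum := by
  induction m using Multiset.induction with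
  | empty => simp [msum, indFun_zero]
  | cons a m ih =>
    rw [msum, Multiset.map_cons, Multiset.sum_cons, indFun_add, Multiset.map_cons,
      Multiset.sum_cons, ← ih]
    rfl

theorem mem_iff {p : ℕ} [Fact p.Prime] (χ : Cfsg.IrrCharacter G) :
    (∃ k : ℕ, Nat.card G = p ^ k * Cfsg.charDegree (χ : G → ℂ)) ↔
      ∃ (P : Sylow p G) (θ : ↥(P : Subgroup G) → ℂ), Cfsg.IsCharacter ↥(P : Subgroup G) θ ∧
        (χ : G → ℂ) = Cfsg.indFun (P : Subgroup G) θ := by
  classical
  have hp : p.Prime := Fact.out
  have hdp : ∀ (P : Sylow p G) (ψ : Cfsg.IrrCharacter (P : Subgroup G)),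
      ∃ b, Cfsg.charDegree (ψ : ↥(P : Subgroup G) → ℂ) = p ^ b := fun P ψ => by
    obtain ⟨b, _, hb⟩ := (Nat.dvd_prime_pow hp).mp
      (P.card_eq_multiplicity ▸ degree_dvd_card ψ)
    exact ⟨b, hb⟩
  constructor
  · rintro ⟨k, hk⟩
    obtain ⟨P⟩ : Nonempty (Sylow p G) := inferInstance
    set d := Cfsg.charDegree (χ : G → ℂ) with hd
    have hd0 : d ≠ 0 := by
      intro h0
      rw [h0, mul_zero] at hk
      exact Nat.card_pos.ne' hk
    set n := (Nat.card G).factorization p with hn
    have hidx := (P : Subgroup G).index_mul_card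
    rw [P.card_eq_multiplicity, hk] at hidx
    have hnk : n = k + d.factorization p := by
      rw [hn, hk, Nat.factorization_mul (pow_ne_zero _ hp.ne_zero) hd0, Finsupp.add_apply,
        hp.factorization_pow, Finsupp.single_eq_same]
    set a := d.factorization p with ha
    have hdeq : d = (P : Subgroup G).index * p ^ a := by
      rw [← hk, ← hn, hnk, pow_add] at hidx
      rw [mul_left_comm, hk] at hidx
      exact (Nat.eq_of_mul_eq_mul_left (pow_pos hp.pos k) hidx).symm
    have hres : Cfsg.IsCharacter (P : Subgroup G)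
        (fun x : (P : Subgroup G) => (χ : G → ℂ) x) :=
      isCharacter_comp (P : Subgroup G).subtype (isCharacter_irr χ)
    obtain ⟨m, hm⟩ := exists_multiset_sum hres
    change _ = msum m at hm
    obtain ⟨ψ, hψm, hψ⟩ : ∃ ψ ∈ m, Cfsg.charDegree (ψ : ↥(P : Subgroup G) → ℂ) ≤ p ^ a := by
      by_contra hcon
      push Not at hcon
      have hdvd : p ^ (a + 1) ∣ d := by
        have h1 := congrFun hm 1
        rw [msum_one, OneMemClass.coe_one, ← charDegree_cast (isCharacter_irr χ)] at h1
        rw [hd, Nat.cast_injective h1]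
        refine Multiset.dvd_sum fun x hx => ?_
        obtain ⟨ψ, hψ, rfl⟩ := Multiset.mem_map.mp hx
        obtain ⟨b, hb⟩ := hdp P ψ
        rw [hb]
        exact pow_dvd_pow p ((Nat.pow_lt_pow_iff_right hp.one_lt).mp (hb ▸ hcon ψ hψ))
      exact Nat.pow_succ_factorization_not_dvd hd0 hp hdvd
    refine ⟨P, _, isCharacter_irr ψ, ?_⟩
    have hind : Cfsg.IsCharacter G (Cfsg.indFun (P : Subgroup G) (ψ : ↥(P : Subgroup G) → ℂ)) :=
      Cfsg.Agent.Lib.Induced.Character.isCharacter_indFun _ (isCharacter_irr ψ)
    obtain ⟨m', hm'⟩ := exists_multiset_sum hind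
    change _ = msum m' at hm'
    have hχmem : χ ∈ m' := by
      rw [← Multiset.count_pos]
      have h1 := classInner_msum m' χ
      rw [← hm', frobenius_reciprocity _ _ (isClassFunction_irr χ), hm,
        ← classInner_conj_symm, classInner_msum] at h1
      simp only [map_natCast] at h1
      rw [← Nat.cast_injective h1]
      exact Multiset.count_pos.mpr hψm
    obtain ⟨r, rfl⟩ := Multiset.exists_cons_of_mem hχmem
    have h1 := congrFun hm' 1
    rw [indFun_one, msum_one, ← charDegree_cast (isCharacter_irr ψ), ← Nat.cast_mul,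
      Nat.cast_inj, Multiset.map_cons, Multiset.sum_cons, ← hd] at h1
    have h2 : d + (r.map fun φ : Cfsg.IrrCharacter G => Cfsg.charDegree (φ : G → ℂ)).sum ≤ d := by
      rw [← h1]
      exact (Nat.mul_le_mul_left _ hψ).trans hdeq.ge
    have hr : r = 0 := by
      by_contra hne
      obtain ⟨φ, hφ⟩ := Multiset.exists_mem_of_ne_zero hne
      have h3 := Multiset.le_sum_of_mem
        (Multiset.mem_map_of_mem (fun φ : Cfsg.IrrCharacter G => Cfsg.charDegree (φ : G → ℂ)) hφ)
      have h4 : Cfsg.charDegree (φ : G → ℂ) ≠ 0 := fun h0 =>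
        apply_one_ne_zero φ (by rw [← charDegree_cast (isCharacter_irr φ), h0, Nat.cast_zero])
      omega
    rw [hm', hr]
    simp [msum]
  · rintro ⟨P, θ, hθ, hχ⟩
    obtain ⟨m, hm⟩ := exists_multiset_sum hθ
    change _ = msum m at hm
    rw [hm, indFun_msum] at hχ
    rcases m.empty_or_exists_mem with rfl | ⟨ψ, hψ⟩
    · simp at hχ
      exact absurd (congrFun hχ 1) (apply_one_ne_zero χ)
    obtain ⟨r, rfl⟩ := Multiset.exists_cons_of_mem hψ
    have hr : r = 0 := by
      by_contra hne
      obtain ⟨φ, hφ⟩ := Multiset.exists_mem_of_ne_zero hne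
      obtain ⟨s, rfl⟩ := Multiset.exists_cons_of_mem hφ
      simp only [Multiset.map_cons, Multiset.sum_cons] at hχ
      have hI : ∀ x : Cfsg.IrrCharacter (P : Subgroup G), ∃ mm, mm ≠ 0 ∧
          Cfsg.indFun (P : Subgroup G) (x : ↥(P : Subgroup G) → ℂ) = msum mm := fun x => by
        obtain ⟨mm, hmm⟩ := exists_multiset_sum
          (Cfsg.Agent.Lib.Induced.Character.isCharacter_indFun _ (isCharacter_irr x))
        change _ = msum mm at hmm
        refine ⟨mm, fun h0 => ?_, hmm⟩
        have := congrFun hmm 1
        rw [h0, indFun_one] at this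
        simp [msum, apply_one_ne_zero, Subgroup.index_ne_zero_of_finite] at this
      obtain ⟨m1, hm1, e1⟩ := hI ψ
      obtain ⟨m2, hm2, e2⟩ := hI φ
      have hS : Cfsg.IsCharacter G
          (s.map fun x : Cfsg.IrrCharacter (P : Subgroup G) =>
            Cfsg.indFun (P : Subgroup G) (x : ↥(P : Subgroup G) → ℂ)).sum := by
        rw [← indFun_msum]
        refine Cfsg.Agent.Lib.Induced.Character.isCharacter_indFun _ ?_
        clear hχ hm hψ hne hφ
        induction s using Multiset.induction with
        | empty => simpa [msum] using isCharacter_zero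
        | cons a t ih =>
          rw [msum, Multiset.map_cons, Multiset.sum_cons]
          exact isCharacter_add (isCharacter_irr a) ih
      obtain ⟨m3, e3⟩ := exists_multiset_sum hS
      change _ = msum m3 at e3
      rw [e1, e2, e3] at hχ
      have := eq_singleton_of_msum (m := m1 + (m2 + m3)) (χ := χ)
        (by rw [hχ, msum, msum, msum, msum, Multiset.map_add, Multiset.map_add,
          Multiset.sum_add, Multiset.sum_add])
      have hc := congrArg Multiset.card this
      simp only [Multiset.card_add, Multiset.card_singleton] at hc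
      have := Multiset.card_pos.mpr hm1
      have := Multiset.card_pos.mpr hm2
      omega
    subst hr
    simp only [Multiset.map_cons, Multiset.map_zero, Multiset.sum_cons, Multiset.sum_zero,
      add_zero] at hχ
    have h1 := congrFun hχ 1
    rw [indFun_one, ← charDegree_cast (isCharacter_irr χ), ← charDegree_cast (isCharacter_irr ψ),
      ← Nat.cast_mul, Nat.cast_inj] at h1
    obtain ⟨b, hb⟩ := hdp P ψ
    have hbn : b ≤ (Nat.card G).factorization p :=
      (Nat.pow_dvd_pow_iff_le_right hp.one_lt).mp
        (P.card_eq_multiplicity ▸ hb ▸ degree_dvd_card ψ)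
    refine ⟨(Nat.card G).factorization p - b, ?_⟩
    rw [h1, hb, mul_left_comm, ← pow_add, Nat.sub_add_cancel hbn, ← P.card_eq_multiplicity,
      Subgroup.index_mul_card]


end Cfsg.Agent.Lib.BlocksChars5.IndSylow
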