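import Cfsg.Agent.Lib.BrauerPairs.Bridge
import Cfsg.Agent.Lib.BrauerPairs.LocalDefect

/-!
# The local criterion for a maximal pair

`(Q, ω)` is maximal iff some class where `ω` is nonzero has centraliser in `C(Q)` with Sylow
subgroup no bigger than `Q ∩ C(Q)`, and every p-element of `N(Q)` fixing `ω` lies in `Q C(Q)`.
-/

set_option autoImplicit false

namespace Cfsg.Agent.Lib.BlocksChars5.TopPair

open MonoidAlgebra Cfsg.Agent.Lib.BrauerMap.Basic Cfsg.Agent.Lib.BrauerMap.ClassSum
open Cfsg.Agent.Lib.BrauerPairs.Center Cfsg.Agent.Lib.BrauerPairs.Trunc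
open Cfsg.Agent.Lib.BrauerPairs.Conj Cfsg.Agent.Lib.BrauerPairs.Pairs
open Cfsg.Agent.Lib.BrauerPairs.Transport Cfsg.Agent.Lib.BrauerPairs.Maximal
open Cfsg.Agent.Lib.BrauerPairs.LocalDefect

universe u v

variable {k : Type v} [Field k] [IsAlgClosed k] {G : Type u} [Group G] [Finite G]
variable {p : ℕ} [Fact p.Prime] [CharP k p]

local notation "C[" P "]" => Subgroup.centralizer (SetLike.coe P)

/-- Some class where `ω` is nonzero has small centraliser. -/
def SmallClass (p : ℕ) (Q : Subgroup G) (ω : Blk k C[Q]) : Prop :=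
  ∃ y : C[Q], ω (classSumC k y) ≠ 0 ∧
    ∀ S : Subgroup C[Q], IsPGroup p S → S ≤ Subgroup.centralizer ({y} : Set C[Q]) →
      Nat.card S ≤ Nat.card (Q.subgroupOf C[Q])

omit [Finite G] in
theorem mem_sup_centralizer {Q : Subgroup G} {x : G} (hx : x ∈ Q ⊔ C[Q]) :
    ∃ q ∈ Q, ∃ c ∈ C[Q], x = q * c := by
  have h : Q ≤ Subgroup.normalizer (C[Q] : Set G) :=
    le_normalizer_centralizer Subgroup.le_normalizer
  rw [← SetLike.mem_coe, Subgroup.coe_mul_of_left_le_normalizer_right _ _ h] at hx
  obtain ⟨q, hq, c, hc, rfl⟩ := Set.mem_mul.mp hx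
  exact ⟨q, hq, c, hc, rfl⟩

omit [Finite G] [IsAlgClosed k] [Fact p.Prime] [CharP k p] in
/-- A subgroup centralising `y` modulo nothing: membership in the centraliser of `Q ⊔ S`. -/
theorem mem_centralizer_sup {Q S : Subgroup G} {y : G} (hQ : y ∈ C[Q]) (hS : y ∈ C[S]) :
    y ∈ C[Q ⊔ S] :=
  mem_centralizer_of_le (sup_le (mem_centralizer_singleton_of hQ) (mem_centralizer_singleton_of hS))

theorem conjA_of_mem_zpowers {a : MonoidAlgebra k G} {g : G} (hg : conjA g a = a) :
    IsFixedBy (Subgroup.zpowers g) a := by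
  rw [isFixedBy_iff]
  let S : Subgroup G :=
    { carrier := {u | conjA u a = a}
      one_mem' := conjA_one a
      mul_mem' := fun {x y} hx hy => by
        show conjA (x * y) a = a
        rw [conjA_mul, hy, hx]
      inv_mem' := fun {x} hx => by
        show conjA x⁻¹ a = a
        conv_lhs => rw [← (hx : conjA x a = a)]
        rw [← conjA_mul, inv_mul_cancel, conjA_one] }
  exact fun u hu => (Subgroup.zpowers_le.mpr (show g ∈ S from hg)) hu

theorem smallClass_of_top {Q : Subgroup G} {ω : Blk k C[Q]}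
    (h : Top p (⟨Q, ω⟩ : Idx k G)) : SmallClass p Q ω := by
  obtain ⟨D, hD⟩ := exists_isDef (p := p) ω
  obtain ⟨y, hy, hyω, P, rfl⟩ := hD
  refine ⟨y, hyω, fun S hS hSC => ?_⟩
  set C := Subgroup.centralizer ({y} : Set C[Q])
  set D := (P : Subgroup C).map C.subtype with hD
  have hSD : Nat.card S ≤ Nat.card D := by
    obtain ⟨c, -, hc⟩ := exists_map_le_sylow hS hSC P
    rw [← card_map_conj c S]
    exact Subgroup.card_le_of_le hc
  refine hSD.trans ?_
  have hDp : IsPGroup p D := P.2.map _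
  set Dg := D.map (C[Q]).subtype with hDg
  have hDgC : Dg ≤ C[Q] := Subgroup.map_subtype_le _
  have hDgN : Dg ≤ Subgroup.normalizer (Q : Set G) :=
    hDgC.trans (Subgroup.centralizer_le_normalizer _)
  have hRp : IsPGroup p ↥(Dg ⊔ Q) := (hDp.map _).to_sup_of_normal_right' h.1 hDgN
  have hle : Dg ≤ Q := by
    by_contra hn
    have hlt : Q < Dg ⊔ Q := lt_of_le_of_ne le_sup_right fun e => hn (e ▸ le_sup_left)
    have hfix : IsFixedBy (Dg ⊔ Q) (bext C[Q] ω) :=
      Cfsg.Agent.Lib.BrauerPairs.Trunc.isFixedBy_sup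
        (isFixedBy_mono hDgC (isFixedBy_bext _ ω)) (isFixedBy_self Q _)
    have h0 := br_bext_eq_zero_of_top h hRp hlt (sup_le hDgN Subgroup.le_normalizer) hfix
    have hyR : (y : G) ∈ C[Dg ⊔ Q] := by
      refine mem_centralizer_sup ?_ y.2
      rw [Subgroup.mem_centralizer_iff]
      rintro _ ⟨d, hd, rfl⟩
      exact congrArg Subtype.val (Subgroup.mem_centralizer_singleton_iff.mp
        (Subgroup.map_subtype_le _ hd))
    apply hy
    have := congrArg (fun z : MonoidAlgebra k C[Dg ⊔ Q] => z.coeff ⟨_, hyR⟩) h0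
    simpa [coeff_br, bext, coeff_ext] using this
  calc Nat.card D = Nat.card Dg :=
        (Subgroup.card_map_of_injective (Subgroup.subtype_injective _)).symm
    _ ≤ Nat.card ((Q.subgroupOf C[Q]).map (C[Q]).subtype) := Subgroup.card_le_of_le (by
        rw [Subgroup.subgroupOf_map_subtype]
        exact le_inf hle hDgC)
    _ = _ := Subgroup.card_map_of_injective (Subgroup.subtype_injective _)

theorem mem_sup_of_top {Q : Subgroup G} {ω : Blk k C[Q]} (h : Top p (⟨Q, ω⟩ : Idx k G))
    {g : G} (hgN : g ∈ Subgroup.normalizer (Q : Set G)) (hgp : ∃ j, orderOf g = p ^ j)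
    (hact : act Q hgN ω = ω) : g ∈ Q ⊔ C[Q] := by
  classical
  obtain ⟨j, hj⟩ := hgp
  have hR0 : Subgroup.zpowers g ≤ Subgroup.normalizer (Q : Set G) := Subgroup.zpowers_le.mpr hgN
  have hR0p : IsPGroup p (Subgroup.zpowers g) :=
    IsPGroup.of_card (n := j) (by rw [Nat.card_zpowers, hj])
  have hfix0 : IsFixedBy (Subgroup.zpowers g) (bext C[Q] ω) :=
    conjA_of_mem_zpowers ((act_eq_iff hgN ω).mp hact)
  have hactu : ∀ (u : G) (hu : u ∈ Subgroup.zpowers g), act Q (hR0 hu) ω = ω := fun u hu =>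
    (act_eq_iff (hR0 hu) ω).mpr ((isFixedBy_iff _ _).mp hfix0 u hu)
  let e : (u : Subgroup.zpowers g) → C[Q] ≃* C[Q] := fun u =>
    conjEquiv (u : G) C[Q] C[Q] (mem_centralizer_conj_iff (hR0 u.2))
  have he : ∀ (u : Subgroup.zpowers g) (c : C[Q]),
      ((e u c : C[Q]) : G) = (u : G) * c * (u : G)⁻¹ := fun u c => rfl
  letI act' : MulAction (Subgroup.zpowers g) (ConjClasses C[Q]) :=
    { smul := fun u K => ConjClasses.map (e u).toMonoidHom K
      one_smul := fun K => by
        induction K using Quotient.inductionOn with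
        | _ c =>
          show ConjClasses.mk (e 1 c) = ConjClasses.mk c
          congr 1
          exact Subtype.ext (by simp [he])
      mul_smul := fun u w K => by
        induction K using Quotient.inductionOn with
        | _ c =>
          show ConjClasses.mk (e (u * w) c) = ConjClasses.mk (e u (e w c))
          congr 1
          exact Subtype.ext (by simp [he, mul_assoc]) }
  haveI : Finite (ConjClasses C[Q]) := Quotient.finite _
  haveI := Fintype.ofFinite (ConjClasses C[Q])
  let f : ConjClasses C[Q] → k := fun K =>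
    (bidem ω).coeff K.out * ω (classSumC k K.out)
  have hf : ∀ c : C[Q], f (ConjClasses.mk c) = (bidem ω).coeff c * ω (classSumC k c) := by
    intro c
    have hc : IsConj (ConjClasses.mk c).out c :=
      ConjClasses.mk_eq_mk_iff_isConj.mp (Quotient.out_eq _)
    obtain ⟨d, hd⟩ := isConj_iff.mp hc
    have h1 : (bidem ω).coeff c = (bidem ω).coeff (ConjClasses.mk c).out :=
      (congrArg _ hd.symm).trans ((mem_center_iff_coeff _).mp (bidem_mem ω) d _)
    have h2 : classSumC k c = classSumC k (ConjClasses.mk c).out :=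
      Subtype.ext (classSum_eq_of_isConj hc.symm)
    show (bidem ω).coeff _ * ω (classSumC k _) = _
    rw [h1, h2]
  have hinv : ∀ (u : Subgroup.zpowers g) (K : ConjClasses C[Q]), f (u • K) = f K := by
    intro u K
    induction K using Quotient.inductionOn with
    | _ c =>
      show f (ConjClasses.mk (e u c)) = f (ConjClasses.mk c)
      rw [hf, hf]
      congr 1
      · have h1 := hfix0 (u : G) u.2 (c : G)
        rwa [bext, ← he, coeff_ext, coeff_ext] at h1
      · have h1 := DFunLike.congr_fun (hactu u u.2) (classSumC k (e u c))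
        rw [act, cBlk, AlgHom.comp_apply, Cfsg.Agent.Lib.BrauerPairs.Bridge.zMap_classSumC,
          show (conjEquiv (u : G) C[Q] C[Q] (mem_centralizer_conj_iff (hR0 u.2))).symm (e u c) = c
            from (e u).symm_apply_apply c] at h1
        exact h1.symm
  have hsum : ∑ K, f K = 1 := by
    have hx : idem ω = ∑ K : ConjClasses C[Q], (bidem ω).coeff K.out • classSumC k K.out := by
      refine Subtype.ext ?_
      rw [AddSubmonoidClass.coe_finsetSum]
      exact eq_sum_classSum (bidem_mem ω)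
    have h1 : ω (idem ω) = 1 := apply_idem_self ω
    rw [hx, map_sum] at h1
    simpa only [map_smul, smul_eq_mul] using h1
  rw [sum_eq_sum_fixed hR0p f hinv] at hsum
  obtain ⟨K, hK, hK0⟩ := Finset.exists_ne_zero_of_sum_ne_zero (hsum.symm ▸ one_ne_zero :
    (∑ K ∈ Finset.univ.filter (fun K => K ∈ MulAction.fixedPoints (Subgroup.zpowers g) _), f K) ≠ 0)
  have hKf : (⟨g, Subgroup.mem_zpowers g⟩ : Subgroup.zpowers g) • K = K :=
    (Finset.mem_filter.mp hK).2 _
  induction K using Quotient.inductionOn with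
  | _ y =>
    have hy0 : (bidem ω).coeff y ≠ 0 := by
      intro h0
      apply hK0
      show f (ConjClasses.mk y) = 0
      rw [hf, h0, zero_mul]
    obtain ⟨c, hc⟩ := isConj_iff.mp (ConjClasses.mk_eq_mk_iff_isConj.mp hKf)
    set l : G := (c : G) * g with hl
    have hlN : l ∈ Subgroup.normalizer (Q : Set G) :=
      mul_mem (Subgroup.centralizer_le_normalizer _ c.2) hgN
    have hly : l * (y : G) = y * l := by
      have h1 : (c : G) * (g * y * g⁻¹) * (c : G)⁻¹ = y := congrArg Subtype.val hc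
      calc l * y = (c : G) * (g * y * g⁻¹) * (c : G)⁻¹ * l := by rw [hl]; group
        _ = y * l := by rw [h1]
    have hlfix : conjA l (bext C[Q] ω) = bext C[Q] ω := by
      rw [hl, conjA_mul, (act_eq_iff hgN ω).mp hact]
      exact (isFixedBy_iff _ _).mp (isFixedBy_bext _ ω) _ c.2
    obtain ⟨a, m, hm, hom⟩ :=
      Nat.exists_eq_pow_mul_and_not_dvd (orderOf_pos l).ne' p (Fact.out : p.Prime).ne_one
    have hm0 : 0 < m := Nat.pos_of_ne_zero fun h0 => hm (h0 ▸ dvd_zero p)
    have hlo : orderOf (l ^ m) = p ^ a := by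
      rw [orderOf_pow_of_dvd hm0.ne' ⟨p ^ a, by rw [hom, mul_comm]⟩, hom,
        Nat.mul_div_cancel _ hm0]
    set R := Subgroup.zpowers (l ^ m) ⊔ Q with hR
    have hRN : Subgroup.zpowers (l ^ m) ≤ Subgroup.normalizer (Q : Set G) :=
      Subgroup.zpowers_le.mpr (pow_mem hlN m)
    have hRp : IsPGroup p R :=
      (IsPGroup.of_card (n := a) (by rw [Nat.card_zpowers, hlo]) :
        IsPGroup p (Subgroup.zpowers (l ^ m))).to_sup_of_normal_right' h.1 hRN
    have hlQ : l ^ m ∈ Q := by
      by_contra hn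
      have hlt : Q < R := lt_of_le_of_ne le_sup_right fun e => hn (by
        rw [e]; exact Subgroup.mem_sup_left (Subgroup.mem_zpowers _))
      have hfix : IsFixedBy R (bext C[Q] ω) := by
        refine Cfsg.Agent.Lib.BrauerPairs.Trunc.isFixedBy_sup ?_ (isFixedBy_self Q _)
        exact isFixedBy_mono (Subgroup.zpowers_le.mpr (pow_mem (Subgroup.mem_zpowers l) m))
          (conjA_of_mem_zpowers hlfix)
      have h0 := br_bext_eq_zero_of_top h hRp hlt (sup_le hRN Subgroup.le_normalizer) hfix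
      have hyR : (y : G) ∈ C[R] := by
        refine mem_centralizer_sup (mem_centralizer_of_le (Subgroup.zpowers_le.mpr ?_)) y.2
        rw [Subgroup.mem_centralizer_singleton_iff]
        exact ((show Commute l (y : G) from hly).pow_left m).eq
      apply hy0
      have := congrArg (fun z : MonoidAlgebra k C[R] => z.coeff ⟨_, hyR⟩) h0
      simpa [coeff_br, bext, coeff_ext] using this
    have hcl : ∀ n : ℕ, l ^ n * (g ^ n)⁻¹ ∈ C[Q] := by
      intro n
      induction n with
      | zero => simp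
      | succ n ih =>
        have h1 : g ^ n * (c : G) * (g ^ n)⁻¹ ∈ C[Q] :=
          (mem_centralizer_conj_iff (pow_mem hgN n) _).mp c.2
        have h2 : l ^ (n + 1) * (g ^ (n + 1))⁻¹ =
            l ^ n * (g ^ n)⁻¹ * (g ^ n * (c : G) * (g ^ n)⁻¹) := by
          rw [pow_succ, pow_succ, hl]; group
        rw [h2]
        exact mul_mem ih h1
    have hgm : g ^ m ∈ Q ⊔ C[Q] := by
      have : g ^ m = (l ^ m * (g ^ m)⁻¹)⁻¹ * l ^ m := by group
      rw [this]
      exact mul_mem (inv_mem (Subgroup.mem_sup_right (hcl m))) (Subgroup.mem_sup_left hlQ)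
    obtain ⟨i, hi⟩ := exists_pow_eq_self_of_coprime (x := g) (n := m) (by
      rw [hj]
      exact ((Fact.out : p.Prime).coprime_iff_not_dvd.mpr hm).symm.pow_right j)
    rw [← hi]
    exact pow_mem hgm i

theorem top_of_local {Q : Subgroup G} {ω : Blk k C[Q]} (hQ : IsPGroup p Q)
    (hsmall : SmallClass p Q ω)
    (hstab : ∀ g (hgN : g ∈ Subgroup.normalizer (Q : Set G)), (∃ j, orderOf g = p ^ j) →
      act Q hgN ω = ω → g ∈ Q ⊔ C[Q]) : Top p (⟨Q, ω⟩ : Idx k G) := by
  refine ⟨hQ, fun b hb => ?_⟩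
  obtain ⟨hRp, hQR, hRN, hfix, hval⟩ := hb
  set R := b.1
  obtain ⟨h, hh⟩ : ∃ h : C[R], (bext C[Q] ω).coeff (h : G) ≠ 0 := by
    by_contra hall
    push Not at hall
    have h0 : br R (bext C[Q] ω) = br R (0 : MonoidAlgebra k G) := by
      ext u
      rw [coeff_br, br_zero, hall u]
      simp
    rw [val_congr b.2 h0, val_zero] at hval
    exact zero_ne_one hval
  have hhQ : (h : G) ∈ C[Q] := Subgroup.centralizer_le hQR h.2
  set y : C[Q] := ⟨h, hhQ⟩
  have hy : (bidem ω).coeff y ≠ 0 := by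
    intro h0
    apply hh
    show (ext C[Q] (bidem ω)).coeff ((y : C[Q]) : G) = 0
    rw [coeff_ext, h0]
  have hRQC : R ≤ Q ⊔ C[Q] := by
    intro r hr
    obtain ⟨i, hi⟩ := hRp ⟨r, hr⟩
    obtain ⟨j, -, hj⟩ := (Nat.dvd_prime_pow (Fact.out : p.Prime)).mp
      (orderOf_dvd_of_pow_eq_one (congrArg Subtype.val hi : r ^ p ^ i = 1))
    exact hstab r (hRN hr) ⟨j, hj⟩
      ((act_eq_iff (hRN hr) ω).mpr ((isFixedBy_iff _ _).mp hfix r hr))
  set S := R.subgroupOf C[Q] with hS
  have hSp : IsPGroup p S := hRp.comap_of_injective _ (Subgroup.subtype_injective _)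
  have hyS : y ∈ Subgroup.centralizer (S : Set C[Q]) := by
    rw [Subgroup.mem_centralizer_iff]
    intro s hs
    exact Subtype.ext (Subgroup.mem_centralizer_iff.mp h.2 (s : G) hs)
  obtain ⟨ν, hν⟩ := exists_pairOf hSp hyS hy
  obtain ⟨y0, hy0, hbound⟩ := hsmall
  obtain ⟨c, hc⟩ := exists_conj_mem hν hy0
  have hS' : S.map (MulAut.conj c⁻¹).toMonoidHom ≤ Subgroup.centralizer ({y0} : Set C[Q]) := by
    apply mem_centralizer_singleton_of
    have := (mem_centralizer_map_iff c⁻¹ S (c * y0 * c⁻¹)).mp hc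
    simpa [mul_assoc] using this
  have hcard := hbound _ (hSp.map _) hS'
  rw [card_map_conj] at hcard
  have hZS : Q.subgroupOf C[Q] ≤ S := fun z hz => hQR hz
  have hSeq := Subgroup.eq_of_le_of_card_ge hZS hcard
  refine le_antisymm (fun r hr => ?_) hQR
  obtain ⟨q, hq, c', hc', rfl⟩ := mem_sup_centralizer (hRQC hr)
  refine mul_mem hq ?_
  have : (⟨c', hc'⟩ : C[Q]) ∈ S := by
    show c' ∈ R
    exact (Subgroup.mul_mem_cancel_left R (hQR hq)).mp hr
  rw [← hSeq] at this
  exact this

end Cfsg.Agent.Lib.BlocksChars5.TopPair
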