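import Cfsg.Agent.Lib.BlocksChars5.Basic

/-!
# Sums of an irreducible character over cosets
-/

namespace Cfsg.Agent.Lib.BlocksChars5.Vanishing

open scoped ComplexConjugate
open Cfsg.Agent.Lib.Characters.Basic Cfsg.Agent.Lib.BlocksChars5.Basic

attribute [local instance] irrFintype

variable {G : Type*} [Group G] [Finite G]

/-- If `N` is not in the kernel of an irreducible character, the character sums to zero over every
coset of `N`. -/
theorem sum_coset_eq_zero (χ : Cfsg.IrrCharacter G) (N : Subgroup G) [N.Normal] [Fintype N]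
    (hN : ∃ x ∈ N, (χ : G → ℂ) x ≠ (χ : G → ℂ) 1) (g : G) :
    ∑ n : N, (χ : G → ℂ) ((n : G) * g) = 0 := by
  obtain ⟨k, ρ, hρ, e⟩ := χ.2
  haveI := hρ
  rw [← e] at hN ⊢
  set T : Module.End ℂ (Fin k → ℂ) := ∑ n : N, ρ (n : G) with hT
  have hc : ∀ a : G, T * ρ a = ρ a * T := by
    intro a
    rw [hT, Finset.sum_mul, Finset.mul_sum]
    simp only [← map_mul]
    refine Fintype.sum_equiv (MulAut.conjNormal a⁻¹).toEquiv _ _ fun n => ?_
    simp [mul_assoc]
  let f : Representation.IntertwiningMap ρ ρ := ⟨T, fun a => hc a⟩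
  obtain ⟨c, hcf⟩ :=
    (Representation.IsIrreducible.algebraMap_intertwiningMap_bijective_of_isAlgClosed (ρ := ρ)).2 f
  have hT' : T = c • (1 : Module.End ℂ (Fin k → ℂ)) := by
    have := congrArg Representation.IntertwiningMap.toLinearMap hcf
    simp only [Representation.IntertwiningMap.algebraMap_apply,
      Representation.IntertwiningMap.toLinearMap_smul] at this
    exact this.symm
  have habs : ∀ x : N, ρ (x : G) * T = T := by
    intro x
    rw [hT, Finset.mul_sum]
    simp only [← map_mul]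
    exact Fintype.sum_equiv (Equiv.mulLeft x) _ _ fun n => by simp
  have hc0 : c = 0 := by
    by_contra hne
    obtain ⟨x, hx, hxne⟩ := hN
    apply hxne
    have h := habs ⟨x, hx⟩
    rw [hT', mul_smul_comm, mul_one] at h
    have h1 : ρ x = 1 := by
      have := congrArg (fun S : Module.End ℂ (Fin k → ℂ) => c⁻¹ • S) h
      simpa [smul_smul, inv_mul_cancel₀ hne] using this
    simp only [Representation.character, h1, map_one]
  have : ∑ n : N, ρ.character ((n : G) * g) = LinearMap.trace ℂ _ (T * ρ g) := by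
    rw [hT, Finset.sum_mul, map_sum]
    exact Finset.sum_congr rfl fun n _ => by rw [← map_mul]; rfl
  rw [this, hT', hc0, zero_smul, zero_mul, map_zero]

theorem one_class_iff (N M : Subgroup G) [N.Normal] [M.Normal] (hle : N ≤ M) (g : G) (hgM : g ∈ M)
    (hgN : g ∉ N) :
    {h : G | IsConj g h} = (M : Set G) \ (N : Set G) ↔
      ((∀ χ : Cfsg.IrrCharacter G, (∀ x ∈ N, (χ : G → ℂ) x = (χ : G → ℂ) 1) →
          ∀ x ∈ M, x ∉ N → ∀ y ∈ M, y ∉ N → (χ : G → ℂ) x = (χ : G → ℂ) y) ∧
        (∀ χ : Cfsg.IrrCharacter G, (∃ x ∈ N, (χ : G → ℂ) x ≠ (χ : G → ℂ) 1) →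
          (χ : G → ℂ) g = 0)) := by
  classical
  have := Fintype.ofFinite N
  constructor
  · intro hset
    have hcl : ∀ (χ : Cfsg.IrrCharacter G), ∀ x ∈ M, x ∉ N → (χ : G → ℂ) x = (χ : G → ℂ) g := by
      intro χ x hx hxN
      have : IsConj g x := by
        have : x ∈ {h : G | IsConj g h} := hset ▸ (⟨hx, hxN⟩ : x ∈ (M : Set G) \ (N : Set G))
        exact this
      exact classFunction_apply_of_isConj (isClassFunction_irr χ) (isConj_comm.mp this)
    refine ⟨fun χ _ x hx hxN y hy hyN => by rw [hcl χ x hx hxN, hcl χ y hy hyN], fun χ hχ => ?_⟩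
    have h0 := sum_coset_eq_zero χ N hχ g
    rw [Finset.sum_congr rfl (fun (n : N) _ => hcl χ ((n : G) * g) (M.mul_mem (hle n.2) hgM)
      (fun h => hgN ((Subgroup.mul_mem_cancel_left _ n.2).mp h))),
      Finset.sum_const, Finset.card_univ, nsmul_eq_mul] at h0
    exact (mul_eq_zero.mp h0).resolve_left (Nat.cast_ne_zero.mpr Fintype.card_ne_zero)
  · rintro ⟨hconst, hvan⟩
    ext x
    constructor
    · intro hx
      obtain ⟨c, rfl⟩ := isConj_iff.mp hx
      refine ⟨Subgroup.Normal.conj_mem ‹M.Normal› g hgM c, fun h => hgN ?_⟩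
      simpa [mul_assoc] using Subgroup.Normal.conj_mem ‹N.Normal› _ h c⁻¹
    · rintro ⟨hxM, hxN⟩
      show IsConj g x
      by_contra hnc
      have h1 := second_orthogonality g x
      rw [if_neg hnc] at h1
      have h2 := second_orthogonality g g
      rw [if_pos (IsConj.refl g), Finset.sum_congr rfl (fun (χ : Cfsg.IrrCharacter G) _ => show
        (χ : G → ℂ) g * conj ((χ : G → ℂ) g) = (χ : G → ℂ) g * conj ((χ : G → ℂ) x) from by
          by_cases hχ : ∃ n ∈ N, (χ : G → ℂ) n ≠ (χ : G → ℂ) 1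
          · rw [hvan χ hχ, zero_mul, zero_mul]
          · push Not at hχ
            rw [hconst χ hχ g hgM hgN x hxM hxN]), h1] at h2
      exact (Nat.card_pos (α := Subgroup.centralizer ({g} : Set G))).ne (by exact_mod_cast h2)


end Cfsg.Agent.Lib.BlocksChars5.Vanishing
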